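import Groth.Agent.H4DR.LD.Duality
import Groth.Agent.H4LC.Systems
import Mathlib.Algebra.Homology.DerivedCategory.Ext.Linear

/-!
# Local duality: module forms
-/

set_option autoImplicit false
set_option linter.style.haveILetI false
set_option linter.unusedVariables false

universe u v

open CategoryTheory CategoryTheory.Limits Pretriangulated
open Groth.Agent.H4DR.Ext (Ex pre inM shiftSrc)

attribute [local instance] HasDerivedCategory.standard

namespace Groth.Agent.H4DR.LD

variable {A : Type u} [CommRing A]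

section LC

variable (I : Ideal A) (M : Type u) [AddCommGroup M] [Module A M] (i : ℕ)

/-- `Ext` as morphisms. -/
noncomputable def extHom (n : ℕ) : Abelian.Ext ((H4LC.quotSys I).obj (Opposite.op n)) (ModuleCat.of A M) i ≃ₗ[A]
    (Q I n ⟶ (Dual.inD A M)⟦(i : ℤ)⟧) := CategoryTheory.Abelian.Ext.homLinearEquiv (R := A)

theorem extHom_tr {n m : ℕ} (h : n ≤ m)
    (x : Abelian.Ext ((H4LC.quotSys I).obj (Opposite.op n)) (ModuleCat.of A M) i) :
    extHom I M i m ((Abelian.Ext.mk₀ (H4LC.tr (H4LC.quotSys I) h)).comp x (zero_add i)) =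
      qtr I h ≫ extHom I M i n x := by
  show ((Abelian.Ext.mk₀ (H4LC.tr (H4LC.quotSys I) h)).comp x (zero_add i)).hom = _
  rw [Abelian.Ext.comp_hom, Abelian.Ext.mk₀_hom, ShiftedHom.mk₀_comp]
  rfl

/-- The cocone. -/
noncomputable def lcCocone : Cocone (RG.homSys I ((Dual.inD A M)⟦(i : ℤ)⟧)) where
  pt := ModuleCat.of A (ULift.{u + 1} (LocCoh.H I i M))
  ι :=
        { app := fun j => ModuleCat.ofHom (ULift.moduleEquiv.symm.toLinearMap ∘ₗ
            (H4LC.ι (H4LC.quotSys I) i (ModuleCat.of A M) j.unop.unop) ∘ₗ (extHom I M i j.unop.unop).symm.toLinearMap)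
          naturality := fun j k g => ModuleCat.hom_ext (LinearMap.ext fun x => congrArg ULift.up (by
            show H4LC.ι (H4LC.quotSys I) i (ModuleCat.of A M) k.unop.unop
                ((extHom I M i k.unop.unop).symm (qtr I (leOfHom g.unop.unop) ≫ x)) =
              H4LC.ι (H4LC.quotSys I) i (ModuleCat.of A M) j.unop.unop ((extHom I M i j.unop.unop).symm x)
            rw [← H4LC.ι_tr (H4LC.quotSys I) i (ModuleCat.of A M) (leOfHom g.unop.unop)]
            refine congrArg _ ((extHom I M i k.unop.unop).injective ?_)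
            rw [LinearEquiv.apply_symm_apply, extHom_tr]
            exact congrArg (_ ≫ ·) ((extHom I M i j.unop.unop).apply_symm_apply x).symm)) }

/-- `colim Hom(A/I^n, M[i]) → H^i_I(M)`. -/
noncomputable def lcInv : H I ((Dual.inD A M)⟦(i : ℤ)⟧) →ₗ[A] LocCoh.H I i M :=
  ULift.moduleEquiv.toLinearMap ∘ₗ (colimit.desc _ (lcCocone I M i)).hom

theorem lcInv_ι (n : ℕ) (x : Q I n ⟶ (Dual.inD A M)⟦(i : ℤ)⟧) :
    lcInv I M i (ι I _ n x) = H4LC.ι (H4LC.quotSys I) i (ModuleCat.of A M) n ((extHom I M i n).symm x) :=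
  congrArg ULift.down (congr($(colimit.ι_desc (lcCocone I M i) (Opposite.op (Opposite.op n))).hom x))

theorem bijective_lcInv : Function.Bijective (lcInv I M i) := by
  refine ⟨(injective_iff_map_eq_zero _).2 fun z hz => ?_, fun z => ?_⟩
  · obtain ⟨n, x, rfl⟩ := exists_rep I z
    rw [lcInv_ι] at hz
    obtain ⟨m, hm, h⟩ := (H4LC.ι_eq_zero_iff _ _ _ _).1 hz
    have := congrArg (extHom I M i m) h
    rw [extHom_tr, LinearEquiv.apply_symm_apply, map_zero] at this
    rw [← ι_qtr I _ hm x, this, map_zero]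
  · obtain ⟨n, x, rfl⟩ := H4LC.exists_rep (H4LC.quotSys I) i (ModuleCat.of A M) z
    exact ⟨ι I _ n (extHom I M i n x), by rw [lcInv_ι, LinearEquiv.symm_apply_apply]⟩

/-- `H^i_I(M) ≅ colim Hom(A/I^n, M[i])`. -/
noncomputable def lcEquiv : LocCoh.H I i M ≃ₗ[A] H I ((Dual.inD A M)⟦(i : ℤ)⟧) :=
  (LinearEquiv.ofBijective _ (bijective_lcInv I M i)).symm

end LC

theorem exists_small_equiv (A : Type u) [CommRing A] (P : Type v) [AddCommGroup P] [Module A P] [Module.Finite A P] :
    ∃ (N : Type u) (_ : AddCommGroup N) (_ : Module A N), Module.Finite A N ∧ Nonempty (N ≃ₗ[A] P) := by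
  obtain ⟨n, π, hπ⟩ := Module.Finite.exists_fin' A P
  exact ⟨(Fin n → A) ⧸ LinearMap.ker π, inferInstance, inferInstance, inferInstance,
    ⟨π.quotKerEquivOfSurjective hπ⟩⟩

variable [IsLocalRing A] [IsNoetherianRing A] {ω : Dual.D A} (hω : Dual.IsDualizing A ω)
  (hn : Dual.IsNormalized A ω) {E : Type u} [AddCommGroup E] [Module A E]
  {f : IsLocalRing.ResidueField A →ₗ[A] E} (hf : InjHull.IsInjectiveHull f)

include hf in
theorem subsingleton_dual_iff (G : Type v) [AddCommGroup G] [Module A G] :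
    Subsingleton (G →ₗ[A] E) ↔ Subsingleton G :=
  ⟨fun h => (H4Matlis.injective_applyₗ hf G).subsingleton,
    fun h => ⟨fun a b => LinearMap.ext fun x => by rw [Subsingleton.elim x 0, map_zero, map_zero]⟩⟩

include hω hn hf

/-- Local duality. -/
theorem nonempty_duality {K : Dual.D A} (hfin : ∀ i : ℤ, Module.Finite A (Dual.HD A K i)) {a b : ℤ}
    (hb : ∀ i : ℤ, (i < a ∨ b < i) → Subsingleton (Dual.HD A K i)) (i j : ℤ) (hij : j + i = 0) :
    Nonempty (Dual2.HDI A (IsLocalRing.maximalIdeal A) K i ≃ₗ[A] (Ex K ω j →ₗ[A] E)) := by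
  obtain ⟨τ⟩ := nonempty_hull hω hn hf
  exact ⟨(LinearEquiv.ofBijective _ (goodAll_bounded hω hn hf τ hfin hb i)).trans
    (LinearEquiv.congrLeft E A (shiftSrc K ω i j 0 hij).symm)⟩

theorem nonempty_duality_module (M : Type u) [AddCommGroup M] [Module A M] [Module.Finite A M] (i : ℕ) :
    Nonempty (LocCoh.H (IsLocalRing.maximalIdeal A) i M ≃ₗ[A] (Ex (Dual.inD A M) ω (-(i : ℤ)) →ₗ[A] E)) := by
  obtain ⟨τ⟩ := nonempty_hull hω hn hf
  exact ⟨(lcEquiv (IsLocalRing.maximalIdeal A) M i).trans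
    ((LinearEquiv.ofBijective _ (goodAll_module hω hn hf τ M (i : ℤ))).trans
      (LinearEquiv.congrLeft E A
        (shiftSrc (Dual.inD A M) ω (i : ℤ) (-(i : ℤ)) 0 (neg_add_cancel _)).symm))⟩

omit hω hn in
theorem annihilator_dual (G : Type v) [AddCommGroup G] [Module A G] :
    Module.annihilator A (G →ₗ[A] E) = Module.annihilator A G := by
  refine le_antisymm (fun a ha => ?_) (fun a ha => ?_)
  · rw [Module.mem_annihilator] at ha ⊢
    intro x
    apply H4Matlis.injective_applyₗ hf G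
    ext φ
    simpa using LinearMap.congr_fun (ha φ) x
  · rw [Module.mem_annihilator] at ha ⊢
    intro φ
    ext x
    simp [← map_smul, ha x]

end Groth.Agent.H4DR.LD
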