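import Groth.Agent.H4DR.LD.Applications
import Groth.Agent.H4DR.Dualizing.FiniteMap
import Groth.Agent.H4DR.Dualizing.Gorenstein
import Groth.Agent.H4DR.Dualizing.Local
import Groth.Agent.H4Inj.Essential
import Groth.Agent.H4Matlis.Bidual

/-!
# Local duality at the primes
-/

set_option autoImplicit false
set_option linter.style.haveILetI false
set_option linter.unusedVariables false

universe u

open CategoryTheory CategoryTheory.Limits
open Groth.Agent.H4DR.Ext (Ex)
open Groth.Agent.H4DR.Dualizing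

attribute [local instance] HasDerivedCategory.standard

namespace Groth.Agent.H4DR.LD

variable {A : Type u} [CommRing A] [IsLocalRing A] [IsNoetherianRing A]

theorem exists_normalized' {ω : Dual.D A} (h : Dual.IsDualizing A ω) :
    ∃ ω' : Dual.D A, Dual.IsDualizing A ω' ∧ Dual.IsNormalized A ω' := by
  obtain ⟨n, hn⟩ := exists_normalized h
  exact ⟨ω⟦n⟧, isDualizing_shift h n, hn.1⟩

/-- A quotient of a Gorenstein local ring has a normalized dualizing complex. -/
theorem exists_normalized_of_gorenstein_quotient {S : Type u} [CommRing S] [LocCoh.IsGorensteinLocalRing S]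
    (g : S →+* A) (hg : Function.Surjective g) :
    ∃ ω : Dual.D A, Dual.IsDualizing A ω ∧ Dual.IsNormalized A ω := by
  obtain ⟨N, hN⟩ := (inferInstance : LocCoh.IsGorensteinLocalRing S).exists_hasInjectiveDimensionLT
  obtain ⟨ω, hω⟩ := exists_isDualizing_finite g (RingHom.Finite.of_surjective g hg) (isDualizing_inD_self N)
  exact exists_normalized' hω

omit [IsNoetherianRing A] in
theorem exists_pow_annihilator (N : Type u) [AddCommGroup N] [Module A N] [IsNoetherianRing A] [IsArtinian A N]
    [Module.Finite A N] (a : A) (ha : a ∈ IsLocalRing.maximalIdeal A) : ∃ k : ℕ, a ^ k ∈ Module.annihilator A N := by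
  obtain ⟨s, hs⟩ := (inferInstance : Module.Finite A N).fg_top
  have ht : LocCoh.IsPowerTorsion (IsLocalRing.maximalIdeal A) N :=
    H4Matlis.isPowerTorsion_of_isArtinian fun n hn => IsLocalRing.eq_maximalIdeal hn
  choose ν hν using ht
  refine ⟨s.sup ν, ?_⟩
  rw [← Submodule.annihilator_top, ← hs, Submodule.mem_annihilator_span]
  exact fun x => hν x.1 _ (Ideal.pow_le_pow_right (Finset.le_sup x.2) (Ideal.pow_mem_pow ha _))

variable {ω : Dual.D A} (hω : Dual.IsDualizing A ω) (hn : Dual.IsNormalized A ω)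
  (M : Type u) [AddCommGroup M] [Module A M] [Module.Finite A M]
include hω hn

theorem annihilator_H (i : ℕ) : Module.annihilator A (LocCoh.H (IsLocalRing.maximalIdeal A) i M) =
    Module.annihilator A (Ex (Dual.inD A M) ω (-(i : ℤ))) := by
  obtain ⟨E, _, _, f, hf⟩ := H4Inj.exists_isInjectiveHull (R := A) (IsLocalRing.ResidueField A)
  obtain ⟨e⟩ := nonempty_duality_module hω hn hf M i
  exact e.annihilator_eq.trans (annihilator_dual hf _)

/-- Local cohomology at `p` sees the support of the dual at `p`. -/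
theorem notMem_support_iff_H {p : PrimeSpectrum A} {e : ℕ} (he : ringKrullDim (A ⧸ p.asIdeal) = e) (i : ℕ) :
    p ∉ Module.support A (Ex (Dual.inD A M) ω (-(i : ℤ))) ↔ ∀ j : ℕ, j + e = i →
      Subsingleton (LocCoh.H (IsLocalRing.maximalIdeal (Loc p)) j (LocalizedModule p.asIdeal.primeCompl M)) := by
  haveI : IsNoetherianRing (Loc p) := IsLocalization.isNoetherianRing p.asIdeal.primeCompl (Loc p) ‹_›
  have hω' := isDualizing_shift (isDualizing_loc hω p) (deg hω p)
  have hn' := isNormalized_deg hω p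
  rw [mem_support_ex_iff hω M, not_nontrivial_iff_subsingleton]
  refine Iff.trans (b := ∀ j : ℕ, j + e = i → Subsingleton (Ex (Dual.inD (Loc p)
      (LocalizedModule p.asIdeal.primeCompl M)) ((loc ω p)⟦deg hω p⟧) (-(j : ℤ)))) ?_ (forall₂_congr fun j _ => ?_)
  · rw [deg_normalized hω hn p he, show -(i : ℤ) - -(e : ℤ) = (e : ℤ) - i by ring]
    refine ⟨fun h j hj => by rwa [show -(j : ℤ) = (e : ℤ) - i by omega], fun h => ?_⟩
    by_cases hei : e ≤ i
    · have := h (i - e) (by omega)
      rwa [show -((i - e : ℕ) : ℤ) = (e : ℤ) - i by omega] at this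
    · have := subsingleton_ex_pos hω' hn' (LocalizedModule p.asIdeal.primeCompl M) (i := (e : ℤ) - i) (by omega)
      rwa [deg_normalized hω hn p he] at this
  · obtain ⟨E, _, _, f, hf⟩ := H4Inj.exists_isInjectiveHull (R := Loc p) (IsLocalRing.ResidueField (Loc p))
    obtain ⟨ε⟩ := nonempty_duality_module hω' hn' hf (LocalizedModule p.asIdeal.primeCompl M) j
    rw [ε.toEquiv.subsingleton_congr, subsingleton_dual_iff hf]

theorem le_radical_annihilator_H_iff (J : Ideal A) (i : ℕ) :
    J ≤ (Module.annihilator A (LocCoh.H (IsLocalRing.maximalIdeal A) i M)).radical ↔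
      ∀ p : PrimeSpectrum A, ¬ J ≤ p.asIdeal → p ∉ Module.support A (Ex (Dual.inD A M) ω (-(i : ℤ))) := by
  haveI := finite_ex_dualizing hω M (-(i : ℤ))
  rw [annihilator_H hω hn M i]
  refine ⟨fun h p hp hmem => hp (h.trans (p.2.radical_le_iff.2 (Module.mem_support_iff_of_finite.1 hmem))),
    fun h => ?_⟩
  rw [Ideal.radical_eq_sInf]
  refine le_sInf fun P hP => by_contra fun hJ => ?_
  haveI := hP.2
  exact h ⟨P, hP.2⟩ hJ (Module.mem_support_iff_of_finite.2 hP.1)

/-- Finite length of local cohomology. -/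
theorem isFiniteLength_H_iff (i : ℕ) : IsFiniteLength A (LocCoh.H (IsLocalRing.maximalIdeal A) i M) ↔
    ∀ p : PrimeSpectrum A, p.asIdeal ≠ IsLocalRing.maximalIdeal A →
      p ∉ Module.support A (Ex (Dual.inD A M) ω (-(i : ℤ))) := by
  haveI := finite_ex_dualizing hω M (-(i : ℤ))
  obtain ⟨E, _, _, f, hf⟩ := H4Inj.exists_isInjectiveHull (R := A) (IsLocalRing.ResidueField A)
  obtain ⟨e⟩ := nonempty_duality_module hω hn hf M i
  obtain ⟨N, _, _, _, ⟨s⟩⟩ := exists_small_equiv A (Ex (Dual.inD A M) ω (-(i : ℤ)))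
  let e' := e.trans (LinearEquiv.congrLeft E A s.symm)
  have hN : IsFiniteLength A N ↔ IsFiniteLength A (LocCoh.H (IsLocalRing.maximalIdeal A) i M) := by
    refine ⟨fun h => e'.symm.isFiniteLength (H4Matlis.isFiniteLength_hom hf h), fun h => ?_⟩
    let b := (LinearMap.applyₗ : N →ₗ[A] (N →ₗ[A] E) →ₗ[A] E)
    exact (H4Matlis.isFiniteLength_hom hf h).of_injective
      (f := (LinearEquiv.congrLeft E A e'.symm).toLinearMap ∘ₗ b)
      ((LinearEquiv.congrLeft E A e'.symm).injective.comp (H4Matlis.injective_applyₗ hf N))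
  rw [← hN]
  have hsupp : Module.support A N = Module.support A (Ex (Dual.inD A M) ω (-(i : ℤ))) := s.support_eq
  rw [← hsupp]
  refine ⟨fun h p hp hmem => ?_, fun h => ?_⟩
  · obtain ⟨_, _⟩ := isFiniteLength_iff_isNoetherian_isArtinian.1 h
    refine hp ((IsLocalRing.maximalIdeal.isMaximal A).eq_of_le p.2.ne_top fun a ha => ?_).symm
    obtain ⟨k, hk⟩ := exists_pow_annihilator N a ha
    exact p.2.mem_of_pow_mem k (Module.mem_support_iff_of_finite.1 hmem hk)
  · have hle : IsLocalRing.maximalIdeal A ≤ (Module.annihilator A N).radical := by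
      rw [Ideal.radical_eq_sInf]
      refine le_sInf fun P hP => le_of_eq (Eq.symm (by_contra fun hne => ?_))
      exact h ⟨P, hP.2⟩ hne (Module.mem_support_iff_of_finite.2 hP.1)
    obtain ⟨k, hk⟩ := Ideal.exists_pow_le_of_le_radical_of_fg hle (IsNoetherian.noetherian _)
    have h0 : (IsLocalRing.maximalIdeal A) ^ k • (⊤ : Submodule A N) = ⊥ := eq_bot_iff.2
      (Submodule.smul_le.2 fun a ha x _ => (Submodule.mem_bot A).2 (Module.mem_annihilator.1 (hk ha) x))
    exact (Submodule.quotEquivOfEqBot _ h0).isFiniteLength (H4Matlis.isFiniteLength_quotient_smul_top N k)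

end Groth.Agent.H4DR.LD
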