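import Groth.Agent.H4DR.LD.Applications
import Groth.Agent.H4DR.RG.Amplitude
import Groth.Agent.H4DR.Ext.InjAmp

/-!
# Local duality for all objects with finite cohomology
-/

set_option autoImplicit false
set_option linter.style.haveILetI false
set_option linter.unusedVariables false

universe u

open CategoryTheory CategoryTheory.Limits Pretriangulated
open Groth.Agent.H4DR.Ext (Ex pre inM shiftSrc)

attribute [local instance] HasDerivedCategory.standard

namespace Groth.Agent.H4DR.LD

variable {A : Type u} [CommRing A]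

theorem good_mid {I : Ideal A} {O : Dual.D A} {E : Type u} [AddCommGroup E] [Module A E] (τ : H I O →ₗ[A] E)
    (hE : Module.Injective A E) (T : Triangle (Dual.D A)) (hT : T ∈ distTriang (Dual.D A)) (i : ℤ)
    (h1 : Good I τ (T.obj₁⟦i⟧)) (h1' : Good I τ (T.obj₁⟦i + 1⟧)) (h3 : Good I τ (T.obj₃⟦i⟧))
    (h3' : Good I τ (T.obj₃⟦i + -1⟧)) : Good I τ (T.obj₂⟦i⟧) :=
  good₂ I τ hE ((Triangle.shiftFunctor (Dual.D A) i).obj T) (Triangle.shift_distinguished T hT i)
    (h3'.of_iso I τ ((shiftFunctorAdd (Dual.D A) i (-1)).app T.obj₃)) h1 h3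
    (h1'.of_iso I τ ((shiftFunctorAdd (Dual.D A) i 1).app T.obj₁))

variable [IsLocalRing A] [IsNoetherianRing A] {ω : Dual.D A} (hω : Dual.IsDualizing A ω)

omit [IsLocalRing A] [IsNoetherianRing A] in
include hω in
/-- Far left and far right objects do not pair. -/
theorem exists_window [IsNoetherianRing A] {E : Type u} [AddCommGroup E] [Module A E] (I : Ideal A)
    (τ : H I ((CategoryTheory.shiftFunctor (Dual.D A) (0 : ℤ)).obj ω) →ₗ[A] E) : ∃ lo hi : ℤ,
    ∀ (K : Dual.D A) (c i : ℤ), ((∀ j, j < c → Subsingleton (Dual.HD A K j)) → i + hi < c → Good I τ (K⟦i⟧)) ∧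
      ((∀ j, c < j → Subsingleton (Dual.HD A K j)) → c < i + lo → Good I τ (K⟦i⟧)) := by
  obtain ⟨a, b, hinj⟩ := Ext.fid_iff.1 (show Ext.FID ω from hω.finite_injective_dimension)
  obtain ⟨P, hv, hP, ⟨e⟩⟩ := id hinj
  obtain ⟨r, hr⟩ := RG.exists_subsingleton_HDI I
  refine ⟨min a (-(r : ℤ)), max b 0, fun K c i => ⟨fun hK hi => ?_, fun hK hi => ?_⟩⟩
  · haveI := Ext.subsingleton_ex_of_GE (K := K) hK hv hP e (i := -i) (by omega)
    exact good_of_subsingleton I τ
      (subsingleton_H I fun n => Ext.subsingleton_ex_low (a := c) hK (A ⧸ I ^ n) i (by omega))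
      (shiftSrc K ω i (-i) 0 (neg_add_cancel i)).symm.injective.subsingleton
  · haveI := Ext.subsingleton_ex_of_LE (K := K) hK hv hP e (i := -i) (by omega)
    exact good_of_subsingleton I τ (hr K c hK i (by omega))
      (shiftSrc K ω i (-i) 0 (neg_add_cancel i)).symm.injective.subsingleton

variable (hn : Dual.IsNormalized A ω)
  {E : Type u} [AddCommGroup E] [Module A E] {f : IsLocalRing.ResidueField A →ₗ[A] E}
  (hf : InjHull.IsInjectiveHull f)

include hω hn hf in
theorem goodAll_finite (τ : H (IsLocalRing.maximalIdeal A) ((CategoryTheory.shiftFunctor (Dual.D A) (0 : ℤ)).obj ω) ≃ₗ[A] E)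
    {K : Dual.D A} (hK : ∀ j : ℤ, Module.Finite A (Dual.HD A K j)) :
    GoodAll (IsLocalRing.maximalIdeal A) τ.toLinearMap K := fun i => by
  obtain ⟨lo, hi, hw⟩ := exists_window hω (IsLocalRing.maximalIdeal A) τ.toLinearMap
  obtain ⟨T, hT, rfl, h1, h3, hb1, -⟩ := Ext.exists_trunc K (max (i + hi + 1) (i + lo))
  obtain ⟨T', hT', hT2, h1', h3', -, hb2'⟩ := Ext.exists_trunc T.obj₁ (min (i + lo) (i + hi))
  have hE := hf.isInjective
  have hf1 : ∀ j, Module.Finite A (Dual.HD A T.obj₁ j) := fun j => by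
    by_cases hj : max (i + hi + 1) (i + lo) ≤ j
    · haveI := h1 j hj; infer_instance
    · haveI := hK j
      exact Module.Finite.equiv (LinearEquiv.ofBijective _ (hb1 j (by omega))).symm
  have hB : GoodAll (IsLocalRing.maximalIdeal A) τ.toLinearMap T'.obj₃ := by
    refine goodAll_bounded hω hn hf τ (fun j => ?_) (a := min (i + lo) (i + hi))
      (b := max (i + hi + 1) (i + lo)) fun j hj => ?_
    · by_cases hj : min (i + lo) (i + hi) ≤ j
      · haveI : Module.Finite A (Dual.HD A T'.obj₂ j) := by rw [hT2]; exact hf1 j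
        exact Module.Finite.of_surjective _ (hb2' j hj).2
      · haveI := h3' j (by omega); infer_instance
    · rcases hj with hj | hj
      · exact h3' j hj
      · haveI : Subsingleton (Dual.HD A T'.obj₂ j) := by rw [hT2]; exact h1 j (by omega)
        exact (hb2' j (by omega)).2.subsingleton
  have g : ∀ k, i ≤ k → Good (IsLocalRing.maximalIdeal A) τ.toLinearMap (T.obj₁⟦k⟧) := fun k hk => by
    rw [← hT2]
    exact good_mid _ hE T' hT' k
      ((hw T'.obj₁ (min (i + lo) (i + hi) - 1) k).2 (fun j hj => h1' j (by omega)) (by omega))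
      ((hw T'.obj₁ (min (i + lo) (i + hi) - 1) (k + 1)).2 (fun j hj => h1' j (by omega)) (by omega))
      (hB k) (hB _)
  exact good_mid _ hE T hT i (g i le_rfl) (g (i + 1) (by omega))
    ((hw T.obj₃ _ i).1 h3 (by omega)) ((hw T.obj₃ _ (i + -1)).1 h3 (by omega))

include hω hn hf in
theorem nonempty_duality_finite {K : Dual.D A} (hfin : ∀ i : ℤ, Module.Finite A (Dual.HD A K i))
    (i j : ℤ) (hij : j + i = 0) :
    Nonempty (Dual2.HDI A (IsLocalRing.maximalIdeal A) K i ≃ₗ[A] (Ex K ω j →ₗ[A] E)) := by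
  obtain ⟨τ⟩ := nonempty_hull hω hn hf
  exact ⟨(LinearEquiv.ofBijective _ (goodAll_finite hω hn hf τ hfin i)).trans
    (LinearEquiv.congrLeft E A (shiftSrc K ω i j 0 hij).symm)⟩

end Groth.Agent.H4DR.LD
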