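import Groth.Agent.H4DR.LD.Colim
import Groth.Agent.H4DR.Dualizing.Normalized
import Groth.Agent.H4Matlis.End

/-!
# `colim Hom(A/m^n, ω)` is the injective hull of the residue field
-/

set_option autoImplicit false
set_option linter.style.haveILetI false
set_option linter.unusedVariables false

universe u

open CategoryTheory CategoryTheory.Limits Pretriangulated
open Groth.Agent.H4DR.Ext (Ex pre inM)

attribute [local instance] HasDerivedCategory.standard

namespace Groth.Agent.H4DR.LD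

variable {A : Type u} [CommRing A] [IsLocalRing A] [IsNoetherianRing A] {ω : Dual.D A}
  (hω : Dual.IsDualizing A ω) (hn : Dual.IsNormalized A ω)
include hω hn

omit [IsNoetherianRing A] hω in
/-- Finite length modules only see degree zero. -/
theorem subsingleton_ex_fl {N : Type u} [AddCommGroup N] [Module A N] (hN : IsFiniteLength A N) {i : ℤ}
    (hi : i ≠ 0) : Subsingleton (Ex (Dual.inD A N) ω i) := by
  induction hN with
  | of_subsingleton => exact Ext.subsingleton_ex_of_subsingleton _ _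
  | @of_simple_quotient M _ _ L hs hL ih =>
    obtain ⟨I, hI, ⟨e⟩⟩ := isSimpleModule_iff_quot_maximal.mp hs
    obtain rfl := IsLocalRing.eq_maximalIdeal hI
    haveI : Subsingleton (Ex (Dual.inD A (A ⧸ IsLocalRing.maximalIdeal A)) ω i) := hn i hi
    haveI := (Ext.exCongr e (ω⟦i⟧)).symm.injective.subsingleton
    obtain ⟨δ, hT⟩ := Ext.exists_triangle L.subtype L.mkQ Subtype.val_injective (Submodule.mkQ_surjective L)
      (LinearMap.exact_subtype_mkQ L)
    exact Ext.subsingleton_pre₂ _ hT ih ‹_›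

omit [IsNoetherianRing A] hω in
/-- `N ↦ Hom(N, ω)` is exact on finite length modules. -/
theorem fl_ses {L M N : Type u} [AddCommGroup L] [Module A L] [AddCommGroup M] [Module A M]
    [AddCommGroup N] [Module A N] (f : L →ₗ[A] M) (g : M →ₗ[A] N) (hf : Function.Injective f)
    (hg : Function.Surjective g) (hfg : Function.Exact f g) (hL : IsFiniteLength A L) (hN : IsFiniteLength A N) :
    Function.Injective (pre (inM (L := ModuleCat.of A M) (M := ModuleCat.of A N) g) (ω⟦(0 : ℤ)⟧)) ∧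
      Function.Surjective (pre (inM (L := ModuleCat.of A L) (M := ModuleCat.of A M) f) (ω⟦(0 : ℤ)⟧)) ∧
      Function.Exact (pre (inM (L := ModuleCat.of A M) (M := ModuleCat.of A N) g) (ω⟦(0 : ℤ)⟧))
        (pre (inM (L := ModuleCat.of A L) (M := ModuleCat.of A M) f) (ω⟦(0 : ℤ)⟧)) := by
  obtain ⟨δ, hT⟩ := Ext.exists_triangle f g hf hg hfg
  exact ⟨Ext.injective_pre₂ _ hT (show (-1 : ℤ) + 1 = 0 by norm_num) (subsingleton_ex_fl hn hL (by norm_num)),
    Ext.surjective_pre₁ _ hT (zero_add 1) (subsingleton_ex_fl hn hN one_ne_zero), Ext.exact_pre₂ _ hT _⟩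

omit [IsNoetherianRing A] in
theorem length_residue [IsNoetherianRing A] :
    Module.length A (Ex (Dual.inD A (A ⧸ IsLocalRing.maximalIdeal A)) ω 0) =
      Module.length A (A ⧸ IsLocalRing.maximalIdeal A) := by
  obtain ⟨e⟩ := Dualizing.norm_degree hω hn
  exact e.length_eq

theorem length_G {N : Type u} [AddCommGroup N] [Module A N] (hN : IsFiniteLength A N) :
    Module.length A (Ex (Dual.inD A N) ω 0) = Module.length A N := by
  induction hN with
  | @of_subsingleton M _ _ _ =>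
    haveI := Ext.subsingleton_ex_of_subsingleton (A := A) M (ω⟦(0 : ℤ)⟧)
    rw [Module.length_eq_zero, Module.length_eq_zero]
  | @of_simple_quotient M _ _ L hs hL ih =>
    obtain ⟨I, hI, ⟨e⟩⟩ := isSimpleModule_iff_quot_maximal.mp hs
    obtain rfl := IsLocalRing.eq_maximalIdeal hI
    haveI : IsSimpleModule A ((M ⧸ L) ⧸ (⊥ : Submodule A (M ⧸ L))) :=
      IsSimpleModule.congr (Submodule.quotEquivOfEqBot ⊥ rfl)
    have hQ : IsFiniteLength A (M ⧸ L) :=
      .of_simple_quotient (N := (⊥ : Submodule A (M ⧸ L))) .of_subsingleton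
    obtain ⟨h1, h2, h3⟩ := fl_ses hn L.subtype L.mkQ Subtype.val_injective (Submodule.mkQ_surjective L)
      (LinearMap.exact_subtype_mkQ L) hL hQ
    rw [Module.length_eq_add_of_exact _ _ h1 h2 h3,
      Module.length_eq_add_of_exact L.subtype L.mkQ Subtype.val_injective (Submodule.mkQ_surjective L)
        (LinearMap.exact_subtype_mkQ L), ih, (Ext.exCongr e (ω⟦(0 : ℤ)⟧)).symm.length_eq, length_residue hω hn,
      e.length_eq, add_comm]

local notation "𝔪" => IsLocalRing.maximalIdeal A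
set_option quotPrecheck false in
local notation "Ω₀" => (CategoryTheory.shiftFunctor (Dual.D A) (0 : ℤ)).obj ω

theorem ι_injective (n : ℕ) : Function.Injective (ι 𝔪 Ω₀ n) := (injective_iff_map_eq_zero _).2 fun x hx => by
  obtain ⟨m, hm, h⟩ := ι_eq_zero 𝔪 hx
  let g : (A ⧸ 𝔪 ^ m) →ₗ[A] (A ⧸ 𝔪 ^ n) := Submodule.mapQ _ _ LinearMap.id (Ideal.pow_le_pow_right hm)
  have hg : Function.Surjective g := fun y => by
    obtain ⟨y, rfl⟩ := Submodule.Quotient.mk_surjective _ y
    exact ⟨Submodule.Quotient.mk y, rfl⟩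
  have hfl := H4Matlis.isFiniteLength_quotient_pow (R := A) m
  obtain ⟨h1, -, -⟩ := fl_ses hn (LinearMap.ker g).subtype g Subtype.val_injective hg
    (LinearMap.exact_subtype_ker_map g) (hfl.of_injective (LinearMap.ker g).subtype_injective)
    (H4Matlis.isFiniteLength_quotient_pow (R := A) n)
  exact h1 (h.trans (map_zero _).symm)

theorem socle_le_range (z : H 𝔪 Ω₀) (hz : ∀ a ∈ 𝔪, a • z = 0) : z ∈ LinearMap.range (ι 𝔪 Ω₀ 1) := by
  obtain ⟨n, x, rfl⟩ := exists_rep 𝔪 z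
  rcases Nat.eq_zero_or_pos n with rfl | hn0
  · refine ⟨0, ?_⟩
    haveI : Subsingleton (A ⧸ 𝔪 ^ 0) := Submodule.Quotient.subsingleton_iff.2 (by simp)
    rw [@Subsingleton.elim _ (Ext.subsingleton_ex_of_subsingleton (A := A) (A ⧸ 𝔪 ^ 0) Ω₀) x 0, map_zero, map_zero]
  have hx : ∀ a ∈ 𝔪, a • x = 0 := fun a ha => ι_injective hω hn n (by rw [map_smul, hz a ha, map_zero])
  let g : (A ⧸ 𝔪 ^ n) →ₗ[A] (A ⧸ 𝔪 ^ 1) := Submodule.mapQ _ _ LinearMap.id (Ideal.pow_le_pow_right hn0)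
  have hg : Function.Surjective g := fun y => by
    obtain ⟨y, rfl⟩ := Submodule.Quotient.mk_surjective _ y
    exact ⟨Submodule.Quotient.mk y, rfl⟩
  obtain ⟨r, s, hs⟩ := Submodule.fg_iff_exists_fin_generating_family.1 (IsNoetherian.noetherian 𝔪)
  have hs' : ∀ i, s i ∈ 𝔪 := fun i => hs ▸ Submodule.subset_span ⟨i, rfl⟩
  let Φ : (Fin r → A ⧸ 𝔪 ^ n) →ₗ[A] (A ⧸ 𝔪 ^ n) := ∑ i, s i • LinearMap.proj i
  have hmem : ∀ w, Φ w ∈ LinearMap.ker g := fun w => by
    rw [LinearMap.mem_ker, LinearMap.sum_apply, map_sum]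
    refine Finset.sum_eq_zero fun i _ => ?_
    obtain ⟨y, hy⟩ := Submodule.Quotient.mk_surjective _ (w i)
    rw [LinearMap.smul_apply, LinearMap.proj_apply, map_smul, ← hy]
    show s i • (Submodule.Quotient.mk y : A ⧸ 𝔪 ^ 1) = 0
    rw [← Submodule.Quotient.mk_smul, Submodule.Quotient.mk_eq_zero, pow_one]
    exact Ideal.mul_mem_right y _ (hs' i)
  have hsur : Function.Surjective (Φ.codRestrict (LinearMap.ker g) hmem) := fun ⟨y, hy⟩ => by
    obtain ⟨y, rfl⟩ := Submodule.Quotient.mk_surjective _ y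
    have hy' : y ∈ 𝔪 := by simpa using (Submodule.Quotient.mk_eq_zero _).1 (LinearMap.mem_ker.1 hy)
    obtain ⟨c, hc⟩ := (Submodule.mem_span_range_iff_exists_fun A).1 (hs.symm ▸ hy' : y ∈ Submodule.span A (Set.range s))
    refine ⟨fun i => Submodule.Quotient.mk (c i), Subtype.ext ?_⟩
    show Φ _ = Submodule.Quotient.mk y
    rw [← hc, LinearMap.sum_apply]
    refine Eq.trans ?_ (map_sum (Submodule.mkQ (𝔪 ^ n)) _ _).symm
    refine Finset.sum_congr rfl fun i _ => ?_
    rw [LinearMap.smul_apply, LinearMap.proj_apply, ← Submodule.Quotient.mk_smul, smul_eq_mul, smul_eq_mul, mul_comm]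
    rfl
  have hfl := H4Matlis.isFiniteLength_quotient_pow (R := A) n
  have hfl1 := H4Matlis.isFiniteLength_quotient_pow (R := A) 1
  have hker := hfl.of_injective (LinearMap.ker g).subtype_injective
  obtain ⟨-, -, h3⟩ := fl_ses hn (LinearMap.ker g).subtype g Subtype.val_injective hg
    (LinearMap.exact_subtype_ker_map g) hker hfl1
  have hflPi : IsFiniteLength A (Fin r → A ⧸ 𝔪 ^ n) := by
    obtain ⟨_, _⟩ := isFiniteLength_iff_isNoetherian_isArtinian.mp hfl
    exact isFiniteLength_iff_isNoetherian_isArtinian.mpr ⟨inferInstance, inferInstance⟩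
  obtain ⟨h1', -, -⟩ := fl_ses hn (LinearMap.ker (Φ.codRestrict _ hmem)).subtype (Φ.codRestrict _ hmem)
    Subtype.val_injective hsur (LinearMap.exact_subtype_ker_map _)
    (hflPi.of_injective (Submodule.subtype_injective _)) hker
  have hzero : pre (inM (L := ModuleCat.of A (LinearMap.ker g)) (M := ModuleCat.of A (A ⧸ 𝔪 ^ n))
      (LinearMap.ker g).subtype) Ω₀ x = 0 := by
    refine h1' ?_
    rw [map_zero]
    show inM (L := ModuleCat.of A (Fin r → A ⧸ 𝔪 ^ n)) (M := ModuleCat.of A (LinearMap.ker g))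
      (Φ.codRestrict _ hmem) ≫ inM (L := ModuleCat.of A (LinearMap.ker g)) (M := ModuleCat.of A (A ⧸ 𝔪 ^ n))
      (LinearMap.ker g).subtype ≫ x = 0
    rw [← Category.assoc, ← Functor.map_comp, ← ModuleCat.ofHom_comp,
      show (LinearMap.ker g).subtype ∘ₗ Φ.codRestrict _ hmem = Φ from rfl]
    rw [show ModuleCat.ofHom Φ = ∑ i, s i • ModuleCat.ofHom (LinearMap.proj i :
      (Fin r → A ⧸ 𝔪 ^ n) →ₗ[A] A ⧸ 𝔪 ^ n) from ModuleCat.hom_ext (by
        rw [ModuleCat.hom_sum]; rfl), Functor.map_sum, Preadditive.sum_comp]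
    refine Finset.sum_eq_zero fun i _ => ?_
    rw [Functor.map_smul, Linear.smul_comp, ← Linear.comp_smul]
    exact (congrArg (_ ≫ ·) (hx _ (hs' i))).trans comp_zero
  obtain ⟨x', hx'⟩ := (h3 x).1 hzero
  exact ⟨x', by rw [← hx']; exact (ι_qtr 𝔪 Ω₀ hn0 x').symm⟩

/-- `colim Hom(A/m^n, ω) ≅ E`. -/
theorem nonempty_hull {E : Type u} [AddCommGroup E] [Module A E] {f : IsLocalRing.ResidueField A →ₗ[A] E}
    (hf : InjHull.IsInjectiveHull f) : Nonempty (H 𝔪 Ω₀ ≃ₗ[A] E) := by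
  obtain ⟨e0⟩ := Dualizing.norm_degree hω hn
  let e1 : (Q 𝔪 1 ⟶ Ω₀) ≃ₗ[A] A ⧸ 𝔪 :=
    (Ext.exCongr (Submodule.quotEquivOfEq _ _ (pow_one 𝔪)) Ω₀).symm.trans e0
  let f' : (A ⧸ 𝔪) →ₗ[A] E := f
  obtain ⟨τ, hτ⟩ := (Module.Baer.of_injective hf.isInjective).extension_property (ι 𝔪 Ω₀ 1)
    (ι_injective hω hn 1) (f' ∘ₗ e1.toLinearMap)
  have hinj : Function.Injective τ := (injective_iff_map_eq_zero _).2 fun z hz => by
    by_contra hz0
    obtain ⟨k, hk⟩ := isPowerTorsion_H 𝔪 Ω₀ z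
    classical
    have hex : ∃ k, ∀ a ∈ 𝔪 ^ k, a • z = 0 := ⟨k, hk⟩
    obtain ⟨k', hk'⟩ : ∃ k', Nat.find hex = k' + 1 := ⟨Nat.find hex - 1, by
      have : Nat.find hex ≠ 0 := fun h => hz0 (by
        have := Nat.find_spec hex 1 (by rw [h, pow_zero]; exact Ideal.one_eq_top (R := A) ▸ trivial)
        rwa [one_smul] at this)
      omega⟩
    obtain ⟨a, ha, haz⟩ := not_forall₂.1 (Nat.find_min hex (show k' < Nat.find hex by omega))
    obtain ⟨w, hw⟩ := socle_le_range hω hn (a • z) fun b hb => by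
      rw [← mul_smul]
      exact Nat.find_spec hex _ (by rw [hk', pow_succ']; exact Ideal.mul_mem_mul hb ha)
    have : f' (e1 w) = 0 := by
      rw [← LinearEquiv.coe_coe, ← LinearMap.comp_apply, ← LinearMap.congr_fun hτ w, LinearMap.comp_apply, hw,
        map_smul, hz, smul_zero]
    refine haz ?_
    rw [← hw, (e1.map_eq_zero_iff).1 (hf.injective (this.trans (map_zero f').symm)), map_zero]
  refine ⟨LinearEquiv.ofBijective τ ⟨hinj, fun y => ?_⟩⟩
  obtain ⟨n, hn'⟩ := H4Matlis.isPowerTorsion hf y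
  let ev : ((A ⧸ 𝔪 ^ n) →ₗ[A] E) →ₗ[A] E := LinearMap.applyₗ (Submodule.Quotient.mk (1 : A))
  have hev : Function.Injective ev := fun u v h => Submodule.linearMap_qext _ (LinearMap.ext_ring h)
  have hle : LinearMap.range (τ ∘ₗ ι 𝔪 Ω₀ n) ≤ LinearMap.range ev := by
    rintro _ ⟨x, rfl⟩
    have hk : ∀ a ∈ 𝔪 ^ n, a • τ (ι 𝔪 Ω₀ n x) = 0 := fun a ha => by
      rw [← map_smul, ← map_smul, show a • x = (a • 𝟙 (Q 𝔪 n)) ≫ x by rw [Linear.smul_comp, Category.id_comp],
        smul_Q_eq_zero 𝔪 n ha, zero_comp, map_zero, map_zero]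
    exact ⟨Submodule.liftQ _ (LinearMap.toSpanSingleton A E (τ (ι 𝔪 Ω₀ n x)))
      (fun a ha => LinearMap.mem_ker.2 ((LinearMap.toSpanSingleton_apply A E _ a).trans (hk a ha))),
      one_smul A _⟩
  have hfl := H4Matlis.isFiniteLength_quotient_pow (R := A) n
  have hlen : Module.length A (LinearMap.range (τ ∘ₗ ι 𝔪 Ω₀ n)) = Module.length A (LinearMap.range ev) := by
    rw [← (LinearEquiv.ofInjective (τ ∘ₗ ι 𝔪 Ω₀ n) (hinj.comp (ι_injective hω hn n))).length_eq,
      ← (LinearEquiv.ofInjective ev hev).length_eq, H4Matlis.length_hom_eq_length hf hfl]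
    exact length_G hω hn hfl
  have heq : LinearMap.range (τ ∘ₗ ι 𝔪 Ω₀ n) = LinearMap.range ev := by
    obtain ⟨_, _⟩ := isFiniteLength_iff_isNoetherian_isArtinian.mp
      ((LinearEquiv.ofInjective ev hev).isFiniteLength (H4Matlis.isFiniteLength_hom hf hfl))
    by_contra hne
    refine (ne_of_lt ?_) hlen
    have h2 : (LinearMap.range (τ ∘ₗ ι 𝔪 Ω₀ n)).comap (LinearMap.range ev).subtype ≠ ⊤ :=
      fun h => hne (le_antisymm hle fun y hy => (h.ge (x := ⟨y, hy⟩) trivial :))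
    rw [← (Submodule.comapSubtypeEquivOfLe hle).length_eq]
    exact Submodule.length_lt h2
  have hy : y ∈ LinearMap.range ev := ⟨Submodule.liftQ _ (LinearMap.toSpanSingleton A E y)
    (fun a ha => LinearMap.mem_ker.2 ((LinearMap.toSpanSingleton_apply A E _ a).trans (hn' a ha))), one_smul A _⟩
  rw [← heq] at hy
  obtain ⟨x, hx⟩ := hy
  exact ⟨_, hx⟩

omit hω in
theorem subsingleton_H_of_ne {i : ℤ} (hi : i ≠ 0) : Subsingleton (H 𝔪 (ω⟦i⟧)) :=
  subsingleton_H 𝔪 fun n => subsingleton_ex_fl hn (H4Matlis.isFiniteLength_quotient_pow n) hi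

end Groth.Agent.H4DR.LD
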