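import Groth.Agent.H4DR.RG.HomColim
import Groth.Agent.H4DR.Ext.Finite
import Mathlib.Algebra.Module.Injective

/-!
# Element description of `colim Hom(A/I^n, W)` and the pairing with `Hom(W, O)`
-/

set_option autoImplicit false
set_option linter.style.haveILetI false
set_option linter.unusedVariables false

universe u

open CategoryTheory CategoryTheory.Limits Pretriangulated
open Groth.Agent.H4DR.Ext (pre post inM)

attribute [local instance] HasDerivedCategory.standard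

namespace Groth.Agent.H4DR.LD

variable {A : Type u} [CommRing A] (I : Ideal A)

/-- `A/I^n` in `D(A)`. -/
noncomputable abbrev Q (n : ℕ) : Dual.D A := Dual.inD A (A ⧸ I ^ n)

/-- The transition morphism. -/
noncomputable def qtr {n m : ℕ} (h : n ≤ m) : Q I m ⟶ Q I n :=
  inM (L := ModuleCat.of A (A ⧸ I ^ m)) (M := ModuleCat.of A (A ⧸ I ^ n))
    (Submodule.mapQ (I ^ m) (I ^ n) LinearMap.id (Ideal.pow_le_pow_right h))

/-- `colim Hom(A/I^n, W)`. -/
noncomputable abbrev H (W : Dual.D A) : ModuleCat.{u + 1} A := colimit (RG.homSys I W)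

/-- The colimit maps. -/
noncomputable def ι (W : Dual.D A) (n : ℕ) : (Q I n ⟶ W) →ₗ[A] H I W :=
  (colimit.ι (RG.homSys I W) (Opposite.op (Opposite.op n))).hom

theorem exists_rep {W : Dual.D A} (z : H I W) : ∃ (n : ℕ) (x : Q I n ⟶ W), ι I W n x = z := by
  obtain ⟨j, x, hx⟩ := Concrete.colimit_exists_rep (RG.homSys I W) z
  exact ⟨j.unop.unop, x, hx⟩

theorem ι_qtr (W : Dual.D A) {n m : ℕ} (h : n ≤ m) (x : Q I n ⟶ W) : ι I W m (qtr I h ≫ x) = ι I W n x :=
  congr($(colimit.w (RG.homSys I W)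
    ((homOfLE h).op.op : Opposite.op (Opposite.op n) ⟶ Opposite.op (Opposite.op m))).hom x)

theorem ι_eq_zero {W : Dual.D A} {n : ℕ} {x : Q I n ⟶ W} (h : ι I W n x = 0) :
    ∃ (m : ℕ) (hm : n ≤ m), qtr I hm ≫ x = 0 := by
  obtain ⟨k, f, g, hk⟩ := (Concrete.colimit_rep_eq_iff_exists (RG.homSys I W)
    (i := Opposite.op (Opposite.op n)) (j := Opposite.op (Opposite.op n)) x 0).1
    (h.trans (map_zero _).symm)
  refine ⟨k.unop.unop, leOfHom f.unop.unop, ?_⟩
  exact hk.trans (map_zero _)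

theorem smul_Q_eq_zero (n : ℕ) {a : A} (ha : a ∈ I ^ n) : a • 𝟙 (Q I n) = 0 := by
  rw [← CategoryTheory.Functor.map_id, ← Functor.map_smul]
  refine (congrArg _ (ModuleCat.hom_ext (Submodule.linearMap_qext _ (LinearMap.ext_ring ?_)))).trans
    (Functor.map_zero _ _ _)
  show a • (Submodule.Quotient.mk (1 : A) : A ⧸ I ^ n) = 0
  rw [← Submodule.Quotient.mk_smul, smul_eq_mul, mul_one, Submodule.Quotient.mk_eq_zero]
  exact ha

theorem isPowerTorsion_H (W : Dual.D A) : LocCoh.IsPowerTorsion I (H I W) := fun z => by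
  obtain ⟨n, x, rfl⟩ := exists_rep I z
  refine ⟨n, fun a ha => ?_⟩
  rw [← map_smul, show a • x = (a • 𝟙 (Q I n)) ≫ x by rw [Linear.smul_comp, Category.id_comp],
    smul_Q_eq_zero I n ha, zero_comp, map_zero]

theorem subsingleton_H {W : Dual.D A} (h : ∀ n, Subsingleton (Q I n ⟶ W)) : Subsingleton (H I W) :=
  subsingleton_of_forall_eq 0 fun z => by
    obtain ⟨n, x, rfl⟩ := exists_rep I z
    rw [@Subsingleton.elim _ (h n) x 0, map_zero]

/-- The induced map. -/
noncomputable def hmap {W W' : Dual.D A} (g : W ⟶ W') : H I W →ₗ[A] H I W' :=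
  (colimMap (Functor.whiskerLeft _ ((linearYoneda A (Dual.D A)).map g) : RG.homSys I W ⟶ RG.homSys I W')).hom

@[simp]
theorem hmap_ι {W W' : Dual.D A} (g : W ⟶ W') (n : ℕ) (x : Q I n ⟶ W) :
    hmap I g (ι I W n x) = ι I W' n (x ≫ g) :=
  congr($(ι_colimMap (Functor.whiskerLeft _ ((linearYoneda A (Dual.D A)).map g) : RG.homSys I W ⟶ RG.homSys I W')
    (Opposite.op (Opposite.op n))).hom x)

theorem hmap_add {W W' : Dual.D A} (g g' : W ⟶ W') (z : H I W) : hmap I (g + g') z = hmap I g z + hmap I g' z := by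
  obtain ⟨n, x, rfl⟩ := exists_rep I z
  simp [Preadditive.comp_add]

theorem hmap_smul {W W' : Dual.D A} (a : A) (g : W ⟶ W') (z : H I W) : hmap I (a • g) z = a • hmap I g z := by
  obtain ⟨n, x, rfl⟩ := exists_rep I z
  simp [Linear.comp_smul]

theorem hmap_comp {W W' W'' : Dual.D A} (g : W ⟶ W') (g' : W' ⟶ W'') (z : H I W) :
    hmap I (g ≫ g') z = hmap I g' (hmap I g z) := by
  obtain ⟨n, x, rfl⟩ := exists_rep I z
  simp

theorem hmap_id (W : Dual.D A) (z : H I W) : hmap I (𝟙 W) z = z := by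
  obtain ⟨n, x, rfl⟩ := exists_rep I z
  simp

/-- Isomorphic objects. -/
noncomputable def hEquiv {W W' : Dual.D A} (e : W ≅ W') : H I W ≃ₗ[A] H I W' :=
  LinearEquiv.ofLinearMap (hmap I e.hom) (hmap I e.inv)
    (LinearMap.ext fun z => by rw [LinearMap.comp_apply, ← hmap_comp, e.inv_hom_id, hmap_id]; rfl)
    (LinearMap.ext fun z => by rw [LinearMap.comp_apply, ← hmap_comp, e.hom_inv_id, hmap_id]; rfl)

theorem exact_hmap (T : Triangle (Dual.D A)) (hT : T ∈ distTriang (Dual.D A)) :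
    Function.Exact (hmap I T.mor₁) (hmap I T.mor₂) := fun z => by
  refine ⟨fun hz => ?_, ?_⟩
  · obtain ⟨n, x, rfl⟩ := exists_rep I z
    rw [hmap_ι] at hz
    obtain ⟨m, hm, hx⟩ := ι_eq_zero I hz
    obtain ⟨y, hy⟩ := T.coyoneda_exact₂ hT (qtr I hm ≫ x) (by rw [Category.assoc]; exact hx)
    exact ⟨ι I _ m y, by rw [hmap_ι, ← hy, ι_qtr]⟩
  · rintro ⟨w, rfl⟩
    rw [← hmap_comp, comp_distTriang_mor_zero₁₂ _ hT]
    simpa using hmap_smul I (0 : A) (T.mor₁ ≫ T.mor₂) w

section Pairing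

variable {O : Dual.D A} {E : Type u} [AddCommGroup E] [Module A E] (τ : H I O →ₗ[A] E)

/-- The pairing. -/
noncomputable def θ (W : Dual.D A) : H I W →ₗ[A] ((W ⟶ O) →ₗ[A] E) where
  toFun z :=
    { toFun := fun φ => τ (hmap I φ z)
      map_add' := fun φ φ' => by rw [hmap_add, map_add]
      map_smul' := fun a φ => by rw [hmap_smul, map_smul]; rfl }
  map_add' z z' := LinearMap.ext fun φ => by simp [map_add]
  map_smul' a z := LinearMap.ext fun φ => by simp [map_smul]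

theorem θ_apply (W : Dual.D A) (z : H I W) (φ : W ⟶ O) : θ I τ W z φ = τ (hmap I φ z) := rfl

theorem θ_natural {W W' : Dual.D A} (g : W ⟶ W') (z : H I W) :
    θ I τ W' (hmap I g z) = θ I τ W z ∘ₗ pre g O := LinearMap.ext fun φ => by
  show τ (hmap I φ (hmap I g z)) = τ (hmap I (g ≫ φ) z)
  rw [hmap_comp]

/-- The pairing is perfect at `W`. -/
def Good (W : Dual.D A) : Prop := Function.Bijective (θ I τ W)

theorem Good.of_iso {W W' : Dual.D A} (e : W ≅ W') (h : Good I τ W) : Good I τ W' := by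
  have he : ∀ z, θ I τ W' z = θ I τ W (hmap I e.inv z) ∘ₗ pre e.hom O := fun z => by
    rw [← θ_natural, ← hmap_comp, e.inv_hom_id, hmap_id]
  refine ⟨(injective_iff_map_eq_zero _).2 fun z hz => ?_, fun u => ?_⟩
  · have h0 : θ I τ W (hmap I e.inv z) = 0 := LinearMap.ext fun φ => by
      have := LinearMap.congr_fun ((he z).symm.trans hz) (e.inv ≫ φ)
      simpa [pre] using this
    rw [← (hEquiv I e.symm).map_eq_zero_iff]
    exact h.1 (h0.trans (map_zero _).symm)
  · obtain ⟨w, hw⟩ := h.2 (u ∘ₗ pre e.inv O)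
    refine ⟨hmap I e.hom w, LinearMap.ext fun φ => ?_⟩
    rw [θ_natural, hw]
    simp [pre]

theorem good_of_subsingleton {W : Dual.D A} (h1 : Subsingleton (H I W)) (h2 : Subsingleton (W ⟶ O)) :
    Good I τ W := by
  haveI : Subsingleton ((W ⟶ O) →ₗ[A] E) := ⟨fun f g => LinearMap.ext fun φ => by
    rw [Subsingleton.elim φ 0, map_zero, map_zero]⟩
  exact ⟨Function.injective_of_subsingleton _, fun u => ⟨0, Subsingleton.elim _ _⟩⟩

variable (hE : Module.Injective A E)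
include hE

theorem exists_factor (T : Triangle (Dual.D A)) (hT : T ∈ distTriang (Dual.D A))
    (u : (T.obj₂ ⟶ O) →ₗ[A] E) (hu : u ∘ₗ pre T.mor₂ O = 0) :
    ∃ v : (T.obj₁ ⟶ O) →ₗ[A] E, v ∘ₗ pre T.mor₁ O = u := by
  let f := pre T.mor₁ O
  have hk : LinearMap.ker f ≤ LinearMap.ker u := fun φ hφ => by
    obtain ⟨ψ, rfl⟩ := ((Ext.exact_pre₂ T hT O) φ).1 hφ
    exact LinearMap.congr_fun hu ψ
  obtain ⟨v, hv⟩ := (Module.Baer.of_injective hE).extension_property ((LinearMap.ker f).liftQ f le_rfl)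
    (LinearMap.ker_eq_bot.1 (Submodule.ker_liftQ_eq_bot _ _ _ le_rfl)) ((LinearMap.ker f).liftQ u hk)
  exact ⟨v, LinearMap.ext fun φ => LinearMap.congr_fun hv (Submodule.Quotient.mk φ)⟩

variable (T : Triangle (Dual.D A)) (hT : T ∈ distTriang (Dual.D A))
include hT

/-- Four lemma: injectivity. -/
theorem injective_θ₂ (h0 : Function.Surjective (θ I τ T.invRotate.obj₁)) (h1 : Function.Injective (θ I τ T.obj₁))
    (h3 : Function.Injective (θ I τ T.obj₃)) : Function.Injective (θ I τ T.obj₂) :=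
  (injective_iff_map_eq_zero _).2 fun z hz => by
    have h2 : hmap I T.mor₂ z = 0 := h3 (by rw [θ_natural, hz, LinearMap.zero_comp, map_zero])
    obtain ⟨w, rfl⟩ := (exact_hmap I T hT z).1 h2
    rw [θ_natural] at hz
    obtain ⟨v, hv⟩ := exists_factor hE T.invRotate (inv_rot_of_distTriang _ hT) (θ I τ T.obj₁ w) hz
    obtain ⟨t, rfl⟩ := h0 v
    rw [← θ_natural] at hv
    rw [← h1 hv]
    exact (exact_hmap I T.invRotate (inv_rot_of_distTriang _ hT) _).2 ⟨t, rfl⟩

/-- Four lemma: surjectivity. -/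
theorem surjective_θ₂ (h1 : Function.Surjective (θ I τ T.obj₁)) (h3 : Function.Surjective (θ I τ T.obj₃))
    (h4 : Function.Injective (θ I τ T.rotate.obj₃)) : Function.Surjective (θ I τ T.obj₂) := fun u => by
  obtain ⟨z, hz⟩ := h3 (u ∘ₗ pre T.mor₂ O)
  have hz0 : hmap I T.mor₃ z = 0 := h4 (by
    refine ((θ_natural I τ T.mor₃ z).trans ?_).trans (map_zero (θ I τ T.rotate.obj₃)).symm
    rw [hz]
    refine LinearMap.ext fun φ => ?_
    show u (T.mor₂ ≫ T.mor₃ ≫ φ) = 0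
    rw [comp_distTriang_mor_zero₂₃_assoc _ hT, zero_comp, map_zero])
  obtain ⟨(w : H I T.obj₂), (hw : hmap I T.mor₂ w = z)⟩ := (exact_hmap I T.rotate (rot_of_distTriang _ hT) z).1 hz0
  obtain ⟨v, hv⟩ := exists_factor hE T hT (u - θ I τ T.obj₂ w) (by
    rw [LinearMap.sub_comp, ← θ_natural, ← hz, show hmap I T.mor₂ w = z from hw, sub_self])
  obtain ⟨t, rfl⟩ := h1 v
  refine ⟨hmap I T.mor₁ t + w, ?_⟩
  rw [map_add, θ_natural, hv, sub_add_cancel]

/-- The five lemma. -/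
theorem good₂ (h0 : Good I τ T.invRotate.obj₁) (h1 : Good I τ T.obj₁) (h3 : Good I τ T.obj₃)
    (h4 : Good I τ T.rotate.obj₃) : Good I τ T.obj₂ :=
  ⟨injective_θ₂ I τ hE T hT h0.2 h1.1 h3.1, surjective_θ₂ I τ hE T hT h1.2 h3.2 h4.1⟩

end Pairing

/-- `Good` in every degree. -/
def GoodAll {O : Dual.D A} {E : Type u} [AddCommGroup E] [Module A E] (τ : H I O →ₗ[A] E) (K : Dual.D A) : Prop :=
  ∀ i : ℤ, Good I τ (K⟦i⟧)

section All

variable {O : Dual.D A} {E : Type u} [AddCommGroup E] [Module A E] (τ : H I O →ₗ[A] E)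

theorem GoodAll.of_iso {K L : Dual.D A} (e : K ≅ L) (h : GoodAll I τ K) : GoodAll I τ L := fun i =>
  (h i).of_iso I τ ((shiftFunctor (Dual.D A) i).mapIso e)

theorem GoodAll.shift {K : Dual.D A} (h : GoodAll I τ K) (k : ℤ) : GoodAll I τ (K⟦k⟧) := fun i =>
  (h (k + i)).of_iso I τ ((shiftFunctorAdd (Dual.D A) k i).app K)

theorem GoodAll.ext (hE : Module.Injective A E) (T : Triangle (Dual.D A)) (hT : T ∈ distTriang (Dual.D A))
    (h1 : GoodAll I τ T.obj₁) (h3 : GoodAll I τ T.obj₃) : GoodAll I τ T.obj₂ := fun i => by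
  let T' := (Triangle.shiftFunctor (Dual.D A) i).obj T
  refine good₂ I τ hE T' (Triangle.shift_distinguished T hT i) ?_ (h1 i) (h3 i) ?_
  · exact (h3 (i + -1)).of_iso I τ ((shiftFunctorAdd (Dual.D A) i (-1)).app T.obj₃)
  · exact (h1 (i + 1)).of_iso I τ ((shiftFunctorAdd (Dual.D A) i 1).app T.obj₁)

end All

end Groth.Agent.H4DR.LD
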