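import Groth.Agent.H4DR.LD.Hull
import Groth.Agent.H4DR.RG.Comp
import Groth.Agent.H4DR.RG.Vanish
import Groth.Agent.H4DR.Ext.Devissage
import Groth.Agent.H4DR.Ext.LocalDevissage

/-!
# Local duality for bounded objects with finite cohomology
-/

set_option autoImplicit false
set_option linter.style.haveILetI false
set_option linter.unusedVariables false

universe u

open CategoryTheory CategoryTheory.Limits Pretriangulated
open Groth.Agent.H4DR.Ext (Ex pre inM addLin shiftSrc)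

attribute [local instance] HasDerivedCategory.standard

namespace Groth.Agent.H4DR.LD

variable {A : Type u} [CommRing A] [IsLocalRing A] [IsNoetherianRing A]

local notation "𝔪" => IsLocalRing.maximalIdeal A

theorem isTors_inD (N : Type u) [AddCommGroup N] [Module A N] (hN : LocCoh.IsPowerTorsion 𝔪 N) :
    RG.IsTors 𝔪 (Dual.inD A N) := fun j x => by
  rcases eq_or_ne j 0 with rfl | hj
  · obtain ⟨k, hk⟩ := hN (DComplete.e0 (ModuleCat.of A N) x)
    exact ⟨k, fun a ha => (DComplete.e0 (ModuleCat.of A N)).injective (by rw [map_smul, hk a ha, map_zero])⟩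
  · haveI := PCoh.subsingleton_HD_inD (ModuleCat.of A N) j hj
    exact ⟨0, fun a _ => Subsingleton.elim _ _⟩

/-- For torsion objects the colimit is the cohomology. -/
theorem nonempty_H_torsion (K : Dual.D A) (hK : RG.IsTors 𝔪 K) (q : ℤ) :
    Nonempty (H 𝔪 (K⟦q⟧) ≃ₗ[A] Dual.HD A K q) := by
  haveI : DRing.HasRgammaI 𝔪 := RG.hasRgammaI _
  obtain ⟨e⟩ := RG.nonempty_equiv_HDI 𝔪 K q
  haveI := RG.isIso_ε 𝔪 K hK
  exact ⟨e.symm.trans (PCoh.hEquiv q (asIso ((DRing.RgammaIε 𝔪).app K)))⟩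

variable {ω : Dual.D A} (hω : Dual.IsDualizing A ω) (hn : Dual.IsNormalized A ω)
  {E : Type u} [AddCommGroup E] [Module A E] {f : IsLocalRing.ResidueField A →ₗ[A] E}
  (hf : InjHull.IsInjectiveHull f)
  (τ : H (IsLocalRing.maximalIdeal A) ((CategoryTheory.shiftFunctor (Dual.D A) (0 : ℤ)).obj ω) ≃ₗ[A] E)

set_option quotPrecheck false in
local notation "Ω₀" => (CategoryTheory.shiftFunctor (Dual.D A) (0 : ℤ)).obj ω

set_option quotPrecheck false in
local notation "τL" => (LinearEquiv.toLinearMap τ : H (IsLocalRing.maximalIdeal A) Ω₀ →ₗ[A] E)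

local notation "k₀" => A ⧸ IsLocalRing.maximalIdeal A

theorem subsingleton_hom_shift (N : Type u) [AddCommGroup N] [Module A N] {i : ℤ}
    (h : Subsingleton (Ex (Dual.inD A N) ω (-i))) : Subsingleton ((Dual.inD A N)⟦i⟧ ⟶ Ω₀) :=
  (shiftSrc (Dual.inD A N) ω i (-i) 0 (neg_add_cancel i)).symm.injective.subsingleton

include hω hn hf in
theorem goodAll_residue : GoodAll 𝔪 τL (Dual.inD A k₀) := fun i => by
  have ht : RG.IsTors 𝔪 (Dual.inD A k₀) := isTors_inD _ fun x => ⟨1, fun a ha => by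
    obtain ⟨x, rfl⟩ := Submodule.Quotient.mk_surjective _ x
    rw [← Submodule.Quotient.mk_smul, Submodule.Quotient.mk_eq_zero, smul_eq_mul]
    exact Ideal.mul_mem_right x _ (by simpa using ha)⟩
  obtain ⟨eH⟩ := nonempty_H_torsion (Dual.inD A k₀) ht i
  rcases eq_or_ne i 0 with rfl | hi
  · let eH' : H 𝔪 ((Dual.inD A k₀)⟦(0 : ℤ)⟧) ≃ₗ[A] k₀ := eH.trans (DComplete.e0 (ModuleCat.of A k₀))
    obtain ⟨e0⟩ := Dualizing.norm_degree hω hn
    obtain ⟨eE⟩ := H4Matlis.exists_homEquiv hf.toIsEssentialInj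
    let z0 := (shiftFunctorZero (Dual.D A) ℤ).app (Dual.inD A k₀)
    let eT : (((Dual.inD A k₀)⟦(0 : ℤ)⟧ ⟶ Ω₀) →ₗ[A] E) ≃ₗ[A] k₀ :=
      (LinearEquiv.congrLeft E A (((Ext.preIso z0 Ω₀).symm).trans e0)).trans eE
    haveI : IsSimpleModule A k₀ := isSimpleModule_iff_isCoatom.2
      (Ideal.isMaximal_def.1 (IsLocalRing.maximalIdeal.isMaximal A))
    haveI := IsSimpleModule.congr eH'
    haveI := IsSimpleModule.congr eT
    refine LinearMap.bijective_of_ne_zero fun h0 => ?_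
    let c : Q 𝔪 1 ≅ Dual.inD A k₀ := (DerivedCategory.singleFunctor (ModuleCat.{u} A) 0).mapIso
      (Submodule.quotEquivOfEq _ _ (pow_one 𝔪)).toModuleIso
    obtain ⟨φ, hφ⟩ : ∃ φ : (Dual.inD A k₀)⟦(0 : ℤ)⟧ ⟶ Ω₀, φ ≠ 0 := by
      haveI : Nontrivial k₀ := IsSimpleModule.nontrivial A k₀
      haveI := ((Ext.preIso z0 Ω₀).symm.trans e0).toEquiv.nontrivial
      exact exists_ne 0
    have h1 : ι 𝔪 Ω₀ 1 ((c.hom ≫ z0.inv) ≫ φ) = 0 := τ.injective (by
      rw [map_zero, ← hmap_ι 𝔪 φ 1 (c.hom ≫ z0.inv)]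
      exact (LinearMap.congr_fun (LinearMap.congr_fun h0 (ι 𝔪 _ 1 (c.hom ≫ z0.inv))) φ :))
    have h2 := ι_injective hω hn 1 (h1.trans (map_zero _).symm)
    rw [Preadditive.IsIso.comp_left_eq_zero] at h2
    exact hφ h2
  · haveI := PCoh.subsingleton_HD_inD (ModuleCat.of A k₀) i hi
    exact good_of_subsingleton 𝔪 τL eH.injective.subsingleton
      (subsingleton_hom_shift k₀ (hn (-i) (neg_ne_zero.2 hi)))

include hω hn in
theorem good_neg (N : Type u) [AddCommGroup N] [Module A N] {i : ℤ} (hi : i < 0) :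
    Good 𝔪 τL ((Dual.inD A N)⟦i⟧) :=
  good_of_subsingleton 𝔪 τL (subsingleton_H 𝔪 fun n => Ext.subsingleton_ex_low (a := 0)
      (fun j hj => PCoh.subsingleton_HD_inD (ModuleCat.of A N) j hj.ne) (A ⧸ 𝔪 ^ n) i hi)
    (subsingleton_hom_shift N (Dualizing.subsingleton_ex_pos hω hn N (by omega)))

omit [IsLocalRing A] [IsNoetherianRing A] in
/-- Maps from a finite module into a power torsion module are power torsion. -/
theorem isPowerTorsion_hom (I : Ideal A) {P : Type (u + 1)} [AddCommGroup P] [Module A P] [Module.Finite A P]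
    (hE : LocCoh.IsPowerTorsion I E) : LocCoh.IsPowerTorsion I (P →ₗ[A] E) := fun u => by
  obtain ⟨s, hs⟩ := (inferInstance : Module.Finite A P).fg_top
  choose ν hν using fun x : P => hE (u x)
  refine ⟨s.sup ν, fun a ha => LinearMap.ext fun x => ?_⟩
  have hx : x ∈ Submodule.span A (s : Set P) := hs ▸ Submodule.mem_top
  induction hx using Submodule.span_induction with
  | mem y hy => exact hν y a (Ideal.pow_le_pow_right (Finset.le_sup hy) ha)
  | zero => simp
  | add y z _ _ h1 h2 => rw [map_add, map_add, h1, h2]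
  | smul r y _ h1 => rw [map_smul, h1]; simp

include hω hn hf in
theorem goodAll_prime_step {p : Ideal A} {x : A} (hx : x ∈ 𝔪)
    {g : (A ⧸ p) →ₗ[A] (A ⧸ (p ⊔ Ideal.span {x}))}
    (hinj : Function.Injective (x • LinearMap.id : (A ⧸ p) →ₗ[A] (A ⧸ p))) (hg : Function.Surjective g)
    (hfg : Function.Exact (x • LinearMap.id : (A ⧸ p) →ₗ[A] (A ⧸ p)) g)
    (hQ : GoodAll 𝔪 τL (Dual.inD A (A ⧸ (p ⊔ Ideal.span {x})))) :
    GoodAll 𝔪 τL (Dual.inD A (A ⧸ p)) := by
  obtain ⟨δ, hT⟩ := Ext.exists_triangle _ g hinj hg hfg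
  let T := Triangle.mk (inM (L := ModuleCat.of A (A ⧸ p)) (M := ModuleCat.of A (A ⧸ p)) (x • LinearMap.id))
    (inM (L := ModuleCat.of A (A ⧸ p)) (M := ModuleCat.of A (A ⧸ (p ⊔ Ideal.span {x}))) g) δ
  suffices h : ∀ (k : ℕ) (i : ℤ), i < k → Good 𝔪 τL ((Dual.inD A (A ⧸ p))⟦i⟧) from
    fun i => h (i.toNat + 1) i (by omega)
  intro k
  induction k with
  | zero => exact fun i hi => good_neg hω hn τ _ hi
  | succ k ih =>
  intro i hi
  rcases lt_or_eq_of_le (show i ≤ (k : ℤ) by omega) with h | rfl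
  · exact ih i h
  let T' := (Triangle.shiftFunctor (Dual.D A) (k : ℤ)).obj T
  have hT' : T' ∈ distTriang (Dual.D A) := Triangle.shift_distinguished T hT k
  let c : A := (((k : ℤ).negOnePow : ℤˣ) : ℤ)
  have hc : c * c = 1 := by
    show ((((k : ℤ).negOnePow : ℤˣ) : ℤ) : A) * (((k : ℤ).negOnePow : ℤˣ) : ℤ) = 1
    rw [← Int.cast_mul, ← Units.val_mul, Int.units_mul_self]
    simp
  let W := (Dual.inD A (A ⧸ p))⟦(k : ℤ)⟧
  have hmor : T'.mor₁ = ((c * x) • 𝟙 W : W ⟶ W) := by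
    show (k : ℤ).negOnePow • (shiftFunctor (Dual.D A) (k : ℤ)).map
      ((DerivedCategory.singleFunctor (ModuleCat.{u} A) 0).map (ModuleCat.ofHom (x • LinearMap.id))) = _
    rw [show ModuleCat.ofHom (x • LinearMap.id : (A ⧸ p) →ₗ[A] (A ⧸ p)) = x • 𝟙 (ModuleCat.of A (A ⧸ p)) from rfl,
      Ext.inM_smul_id, Functor.map_smul, CategoryTheory.Functor.map_id, mul_smul, Units.smul_def]
    exact (Int.cast_smul_eq_zsmul A _ _).symm
  let T'' := T'.invRotate
  have hT'' : T'' ∈ distTriang (Dual.D A) := inv_rot_of_distTriang _ hT'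
  have hmor'' : T''.mor₂ = ((c * x) • 𝟙 W : W ⟶ W) := hmor
  have g0 : Good 𝔪 τL T''.invRotate.obj₁ :=
    (ih ((k : ℤ) + -1) (by omega)).of_iso 𝔪 τL ((shiftFunctorAdd (Dual.D A) (k : ℤ) (-1)).app _)
  have g1 : Good 𝔪 τL T''.obj₁ :=
    (hQ ((k : ℤ) + -1)).of_iso 𝔪 τL ((shiftFunctorAdd (Dual.D A) (k : ℤ) (-1)).app _)
  have g3 : Good 𝔪 τL T'.obj₃ := hQ k
  have hE := hf.isInjective
  -- elements killed by `x`
  have hinj1 : ∀ z : H 𝔪 W, x • z = 0 → θ 𝔪 τL W z = 0 → z = 0 := fun z hxz hz => by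
    have h2 : hmap 𝔪 T''.mor₂ z = 0 := by
      rw [hmor'']
      refine (hmap_smul 𝔪 (c * x) (𝟙 W) z).trans ?_
      rw [hmap_id, mul_smul, hxz, smul_zero]; rfl
    obtain ⟨w, rfl⟩ := (exact_hmap 𝔪 T'' hT'' z).1 h2
    replace hz := (θ_natural 𝔪 τL T''.mor₁ w).symm.trans hz
    obtain ⟨v, hv⟩ := exists_factor hE T''.invRotate (inv_rot_of_distTriang _ hT'') _ hz
    obtain ⟨t, rfl⟩ := g0.2 v
    rw [← θ_natural] at hv
    rw [← g1.1 hv]
    exact (exact_hmap 𝔪 T''.invRotate (inv_rot_of_distTriang _ hT'') _).2 ⟨t, rfl⟩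
  have hsur1 : ∀ u : (W ⟶ Ω₀) →ₗ[A] E, x • u = 0 → ∃ z, θ 𝔪 τL W z = u := fun u hu => by
    obtain ⟨v, hv⟩ := exists_factor hE T'' hT'' u (by
      refine LinearMap.ext fun (φ : W ⟶ Ω₀) => ?_
      refine ((congrArg u ((congrArg (· ≫ φ) hmor'').trans ((Linear.smul_comp _ _ _ (c * x) (𝟙 W) φ).trans
        (congrArg ((c * x) • ·) (Category.id_comp φ))))).trans ?_)
      rw [map_smul, mul_smul]
      exact (congrArg (c • ·) (LinearMap.congr_fun hu φ)).trans (smul_zero c))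
    obtain ⟨t, rfl⟩ := g1.2 v
    exact ⟨hmap 𝔪 T''.mor₁ t, (θ_natural 𝔪 _ T''.mor₁ t).trans hv⟩
  refine ⟨(injective_iff_map_eq_zero _).2 fun z hz => ?_, fun u => ?_⟩
  · obtain ⟨m, hm⟩ := isPowerTorsion_H 𝔪 W z
    have hxz : x ^ m • z = 0 := hm _ (Ideal.pow_mem_pow hx m)
    clear hm
    induction m generalizing z with
    | zero => simpa using hxz
    | succ m ihm =>
      refine hinj1 z (ihm (x • z) (by rw [map_smul, hz, smul_zero]) ?_) hz
      rw [← mul_smul, ← pow_succ, hxz]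
  · haveI : Module.Finite A (W ⟶ Ω₀) := by
      haveI := Dualizing.finite_ex_dualizing hω (A ⧸ p) (-(k : ℤ))
      exact Module.Finite.equiv (shiftSrc (Dual.inD A (A ⧸ p)) ω (k : ℤ) (-(k : ℤ)) 0 (neg_add_cancel _))
    obtain ⟨m, hm⟩ := isPowerTorsion_hom 𝔪 (P := W ⟶ Ω₀) (H4Matlis.isPowerTorsion hf) u
    have hxu : x ^ m • u = 0 := hm _ (Ideal.pow_mem_pow hx m)
    clear hm
    induction m generalizing u with
    | zero => exact ⟨0, by rw [map_zero]; simpa using hxu.symm⟩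
    | succ m ihm =>
      obtain ⟨z, hz⟩ := ihm (x • u) (by rw [← mul_smul, ← pow_succ, hxu])
      have hz0 : hmap 𝔪 T'.mor₂ z = 0 := g3.1 (by
        refine ((θ_natural 𝔪 τL T'.mor₂ z).trans ?_).trans (map_zero (θ 𝔪 τL T'.obj₃)).symm
        refine LinearMap.ext fun φ => ?_
        show θ 𝔪 τL W z (T'.mor₂ ≫ φ) = 0
        rw [hz]
        show x • u (T'.mor₂ ≫ φ) = 0
        have h0 : x • ((T'.mor₂ ≫ φ) : W ⟶ Ω₀) = 0 := by
          have h12 := comp_distTriang_mor_zero₁₂_assoc _ hT' φ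
          rw [hmor, zero_comp] at h12
          have h12' : (c * x) • ((T'.mor₂ ≫ φ) : W ⟶ Ω₀) = 0 :=
            ((Linear.smul_comp _ _ _ (c * x) (𝟙 W) ((T'.mor₂ ≫ φ : W ⟶ Ω₀))).trans
              (congrArg ((c * x) • ·) (Category.id_comp (X := W) (T'.mor₂ ≫ φ : W ⟶ Ω₀)))).symm.trans h12
          have := congrArg (c • ·) h12'
          simpa [← mul_smul, ← mul_assoc, hc] using this
        rw [← map_smul]
        exact (congrArg u h0).trans (map_zero u))
      obtain ⟨(w : H 𝔪 W), hw⟩ := (exact_hmap 𝔪 T' hT' z).1 hz0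
      rw [hmor] at hw
      have hw' : z = x • (c • w) := by
        rw [← hw]
        refine (hmap_smul 𝔪 (c * x) (𝟙 W) w).trans ?_
        rw [hmap_id, smul_smul, mul_comm]
      obtain ⟨z', hz'⟩ := hsur1 (u - θ 𝔪 τL W (c • w)) (by
        rw [smul_sub, ← map_smul, ← hw', hz, sub_self])
      exact ⟨z' + c • w, by rw [map_add, hz', sub_add_cancel]⟩

include hω hn hf in
theorem goodAll_module (M : Type u) [AddCommGroup M] [Module A M] [Module.Finite A M] :
    GoodAll 𝔪 τL (Dual.inD A M) := by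
  have hz : ∀ (N : Type u) [AddCommGroup N] [Module A N], Subsingleton N →
      GoodAll 𝔪 τL (Dual.inD A N) := fun N _ _ _ i => by
    have h0 : IsZero ((Dual.inD A N)⟦i⟧) := (shiftFunctor _ i).map_isZero
      ((DerivedCategory.singleFunctor (ModuleCat.{u} A) 0).map_isZero (ModuleCat.isZero_of_subsingleton (ModuleCat.of A N)))
    exact good_of_subsingleton 𝔪 τL (subsingleton_H 𝔪 fun n => ⟨fun a b => h0.eq_of_tgt a b⟩)
      ⟨fun a b => h0.eq_of_src a b⟩
  have hext : ∀ {L M N : Type u} [AddCommGroup L] [Module A L] [AddCommGroup M] [Module A M]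
      [AddCommGroup N] [Module A N] (a : L →ₗ[A] M) (b : M →ₗ[A] N), Function.Injective a → Function.Surjective b →
      Function.Exact a b → GoodAll 𝔪 τL (Dual.inD A L) → GoodAll 𝔪 τL (Dual.inD A N) →
      GoodAll 𝔪 τL (Dual.inD A M) := fun a b ha hb hab h1 h3 => by
    obtain ⟨δ, hT⟩ := Ext.exists_triangle a b ha hb hab
    exact GoodAll.ext 𝔪 τL hf.isInjective _ hT h1 h3
  have hquot : ∀ J : Ideal A, GoodAll 𝔪 τL (Dual.inD A (A ⧸ J)) := fun J => by
    refine Ext.quotient_induction (fun J => GoodAll 𝔪 τL (Dual.inD A (A ⧸ J))) ?_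
      (goodAll_residue hω hn hf τ) ?_ ?_ J
    · exact hz _ (Submodule.Quotient.subsingleton_iff.2 rfl)
    · intro J c h1 h2
      obtain ⟨a, b, ha, hb, hab⟩ := Ext.colon_ses J c
      exact hext a b ha hb hab h1 h2
    · intro p _ x hx hxp hQ
      obtain ⟨g, hinj, hg, hfg⟩ := Ext.prime_ses p hxp
      exact goodAll_prime_step hω hn hf τ hx hinj hg hfg hQ
  induction ‹Module.Finite A M› using IsNoetherianRing.induction_on_isQuotientEquivQuotientPrime A with
  | subsingleton N => exact hz N inferInstance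
  | quotient N p e =>
    exact GoodAll.of_iso 𝔪 τL ((DerivedCategory.singleFunctor (ModuleCat.{u} A) 0).mapIso e.symm.toModuleIso)
      (hquot p.asIdeal)
  | exact N₁ N₂ N₃ a b ha hb hab h1 h3 => exact hext a b ha hb hab h1 h3

include hω hn hf in
/-- Local duality for bounded objects with finite cohomology. -/
theorem goodAll_bounded {K : Dual.D A} (hfin : ∀ i : ℤ, Module.Finite A (Dual.HD A K i)) {a b : ℤ}
    (hb : ∀ i : ℤ, (i < a ∨ b < i) → Subsingleton (Dual.HD A K i)) : GoodAll 𝔪 τL K := by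
  refine Ext.ind_homology (fun K => GoodAll 𝔪 τL K) (fun K hK i => ?_)
    (fun e h => GoodAll.of_iso 𝔪 τL e h) (fun T hT h1 h3 => GoodAll.ext 𝔪 τL hf.isInjective T hT h1 h3)
    (b + 1 - a).toNat (m := a) (fun i hi => hb i (by omega)) fun i =>
      (haveI := hfin i; goodAll_module hω hn hf τ (Dual.HD A K i)).shift 𝔪 τL (-i)
  have h0 : IsZero (K⟦i⟧) := (shiftFunctor _ i).map_isZero (RG.isZero_of_subsingleton_HD K hK)
  exact good_of_subsingleton 𝔪 τL (subsingleton_H 𝔪 fun n => ⟨fun a b => h0.eq_of_tgt a b⟩)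
    ⟨fun a b => h0.eq_of_src a b⟩

end Groth.Agent.H4DR.LD
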