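import Groth.Agent.H4DR.LD.Applications
import Groth.Agent.H4DR.LD.Duality
import Groth.Agent.H4LC.HLVT
import Groth.Agent.S0299
import Mathlib.RingTheory.Ideal.AssociatedPrime.Localization

/-!
# Vanishing of the top local cohomology from the degree-zero local cohomology of the dualizing complex
-/

set_option autoImplicit false
set_option linter.style.haveILetI false
set_option linter.unusedSectionVars false

universe u

open CategoryTheory CategoryTheory.Limits Pretriangulated TensorProduct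
open Groth.Agent.H4DR.Ext (Ex pre inM)

attribute [local instance] HasDerivedCategory.standard

namespace Groth.Agent.H4DR.LD

variable {A : Type u} [CommRing A]

theorem inM_comp {L M N : ModuleCat.{u} A} (f : L →ₗ[A] M) (g : M →ₗ[A] N) :
    inM f ≫ inM g = inM (g ∘ₗ f) :=
  ((DerivedCategory.singleFunctor (ModuleCat.{u} A) 0).map_comp _ _).symm

theorem eq_zero_of_inM {L M : ModuleCat.{u} A} (f : L →ₗ[A] M) (h : inM f = 0) : f = 0 :=
  congrArg ModuleCat.Hom.hom ((DerivedCategory.singleFunctor (ModuleCat.{u} A) 0).map_injective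
    (h.trans (Functor.map_zero _ _ _).symm) : ModuleCat.ofHom f = 0)

variable (I : Ideal A)

theorem qtr_comp {n m l : ℕ} (h : n ≤ m) (h' : m ≤ l) :
    qtr I h' ≫ qtr I h = qtr I (h.trans h') :=
  (inM_comp _ _).trans (congrArg (fun f => inM (L := ModuleCat.of A (A ⧸ I ^ l))
    (M := ModuleCat.of A (A ⧸ I ^ n)) f) (Submodule.linearMap_qext _ (LinearMap.ext fun _ => rfl)))

variable [IsLocalRing A] [IsNoetherianRing A] {ω : Dual.D A} (hω : Dual.IsDualizing A ω)
  (hn : Dual.IsNormalized A ω)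

set_option quotPrecheck false in
local notation "Ω₀" => (CategoryTheory.shiftFunctor (Dual.D A) (0 : ℤ)).obj ω
local notation "𝔪" => IsLocalRing.maximalIdeal A

include hω

/-- One transition map kills all of `Hom(A/I^n, ω)` if the colimit vanishes. -/
theorem exists_pre_qtr_eq_zero (h0 : Subsingleton (H I Ω₀)) (n : ℕ) :
    ∃ (m : ℕ) (hm : n ≤ m), ∀ x : Q I n ⟶ Ω₀, qtr I hm ≫ x = 0 := by
  classical
  obtain ⟨a, b, hab⟩ := hω.finite_injective_dimension
  have hfin : Module.Finite A (Q I n ⟶ Ω₀) :=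
    Ext.finite_ex_module_of_low hω.finite_cohomology (a := a)
      (fun M _ _ i hi => hab M i (Or.inl hi)) ((0 - a).toNat + 1) (A ⧸ I ^ n) 0 (by omega)
  obtain ⟨s, hs⟩ := hfin.fg_top
  choose g hg hg0 using fun x : Q I n ⟶ Ω₀ =>
    ι_eq_zero I (W := Ω₀) (Subsingleton.elim (ι I _ n x) 0)
  refine ⟨max n (s.sup g), le_max_left _ _, fun x => ?_⟩
  refine (LinearMap.ext_on (s := (s : Set (Q I n ⟶ Ω₀))) hs (f := pre (qtr I (le_max_left _ _)) Ω₀)
    (g := 0) (fun y hy => ?_) :) |> fun h => LinearMap.congr_fun h x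
  show qtr I (le_max_left n (s.sup g)) ≫ y = 0
  rw [← qtr_comp I (hg y) ((Finset.le_sup hy).trans (le_max_right _ _)), Category.assoc, hg0 y]
  exact comp_zero

include hn

/-- The `𝔪`-torsion of the `A/I^n` is a null system. -/
theorem exists_torsion_le (h0 : Subsingleton (H I Ω₀)) (n : ℕ) :
    ∃ m, n ≤ m ∧ ∀ (y : A) (k : ℕ), (∀ a ∈ 𝔪 ^ k, a * y ∈ I ^ m) → y ∈ I ^ n := by
  obtain ⟨m, hm, hzero⟩ := exists_pre_qtr_eq_zero I hω h0 n
  refine ⟨m, hm, fun y k hy => ?_⟩
  obtain ⟨E, _, _, f, hf⟩ := Groth.Agent.S0299.result A (IsLocalRing.ResidueField A)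
  obtain ⟨τ⟩ := nonempty_hull hω hn hf
  have hgood : ∀ j, Good 𝔪 τ.toLinearMap (Q I j) := fun j =>
    (goodAll_module hω hn hf τ (A ⧸ I ^ j) 0).of_iso 𝔪 _
      ((shiftFunctorZero (Dual.D A) ℤ).app (Q I j))
  let ψ : (A ⧸ 𝔪 ^ k) →ₗ[A] (A ⧸ I ^ m) :=
    Submodule.liftQ (𝔪 ^ k) (LinearMap.toSpanSingleton A _ (Submodule.Quotient.mk y))
      fun a ha => LinearMap.mem_ker.2 ((Submodule.Quotient.mk_eq_zero _).2 (hy a ha) :)
  let x : Q 𝔪 k ⟶ Q I m := inM (L := ModuleCat.of A (A ⧸ 𝔪 ^ k)) (M := ModuleCat.of A (A ⧸ I ^ m)) ψ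
  have hz : hmap 𝔪 (qtr I hm) (ι 𝔪 (Q I m) k x) = 0 := by
    refine (hgood n).1 ?_
    rw [map_zero, θ_natural]
    refine LinearMap.ext fun φ => ?_
    show θ 𝔪 τ.toLinearMap (Q I m) (ι 𝔪 (Q I m) k x) (qtr I hm ≫ φ) = 0
    rw [hzero φ, map_zero]
  rw [hmap_ι] at hz
  obtain ⟨l, hl, hl0⟩ := ι_eq_zero 𝔪 hz
  have hl1 := eq_zero_of_inM _ (((congrArg (qtr 𝔪 hl ≫ ·) (inM_comp _ _)).trans (inM_comp _ _)).symm.trans hl0)
  have hl2 := LinearMap.congr_fun hl1 (Submodule.Quotient.mk (1 : A))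
  refine (Submodule.Quotient.mk_eq_zero _).1 (Eq.trans ?_ hl2)
  show Submodule.Quotient.mk y = Submodule.mapQ (I ^ m) (I ^ n) LinearMap.id (Ideal.pow_le_pow_right hm) ((1 : A) • Submodule.Quotient.mk y)
  rw [one_smul]
  rfl

omit hn hω

/-- Membership in a colon ideal after flat base change. -/
theorem mem_map_of_colon {C : Type u} [CommRing C] [Algebra A C] [Module.Flat A C] (a b J : Ideal A)
    (hJ : ∀ y : A, (∀ g ∈ b, g * y ∈ a) → y ∈ J) (x : C)
    (hx : ∀ g ∈ b, algebraMap A C g * x ∈ a.map (algebraMap A C)) : x ∈ J.map (algebraMap A C) := by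
  classical
  obtain ⟨s, hs⟩ := IsNoetherian.noetherian b
  let f : A →ₗ[A] (s → A ⧸ a) := LinearMap.pi fun g => (g : A) • a.mkQ
  have hker : ∀ y, f y = 0 → y ∈ J := fun y hy => hJ y fun g hg => by
    rw [← hs] at hg
    induction hg using Submodule.span_induction with
    | mem z hz => exact (Submodule.Quotient.mk_eq_zero _).1 (congrFun hy ⟨z, hz⟩ :)
    | zero => rw [zero_mul]; exact a.zero_mem
    | add z z' _ _ hz hz' => rw [add_mul]; exact a.add_mem hz hz'
    | smul r z _ hz => rw [smul_eq_mul, mul_assoc]; exact a.mul_mem_left r hz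
  have hex := Module.Flat.lTensor_exact C (LinearMap.exact_subtype_ker_map f)
  have h0 : f.lTensor C (x ⊗ₜ 1) = 0 := by
    refine (TensorProduct.piRight A A C (fun _ : s => A ⧸ a)).injective (funext fun g => ?_)
    rw [map_zero, LinearMap.lTensor_tmul]
    refine (congrFun (TensorProduct.piRight_apply A A C (fun _ : s => A ⧸ a) _) g).trans ?_
    show x ⊗ₜ[A] ((g : A) • (Submodule.Quotient.mk 1 : A ⧸ a)) = 0
    rw [← TensorProduct.smul_tmul, Algebra.smul_def]
    have key : ∀ z ∈ a.map (algebraMap A C), ∀ c : C,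
        (c * z) ⊗ₜ[A] (Submodule.Quotient.mk 1 : A ⧸ a) = 0 := by
      intro z hz
      induction hz using Submodule.span_induction with
      | mem z hz =>
        obtain ⟨r, hr, rfl⟩ := hz
        intro c
        rw [mul_comm, ← Algebra.smul_def, TensorProduct.smul_tmul, ← Submodule.Quotient.mk_smul,
          smul_eq_mul, mul_one, (Submodule.Quotient.mk_eq_zero _).2 hr, TensorProduct.tmul_zero]
      | zero => intro c; rw [mul_zero, TensorProduct.zero_tmul]
      | add z z' _ _ h h' => intro c; rw [mul_add, TensorProduct.add_tmul, h c, h' c, add_zero]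
      | smul r z _ h => intro c; rw [smul_eq_mul, ← mul_assoc]; exact h _
    have hgx := hx g (hs ▸ Ideal.subset_span g.2)
    simpa using key _ hgx 1
  obtain ⟨t, ht⟩ := (hex _).1 h0
  have hx' : x = TensorProduct.rid A C ((LinearMap.ker f).subtype.lTensor C t) := by
    rw [ht, TensorProduct.rid_tmul, one_smul]
  rw [hx']
  clear hx' ht
  induction t with
  | zero => rw [map_zero, map_zero]; exact zero_mem _
  | tmul c j =>
    rw [LinearMap.lTensor_tmul, TensorProduct.rid_tmul]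
    exact Algebra.smul_def (j : A) c ▸
      Ideal.mul_mem_right _ _ (Ideal.mem_map_of_mem _ (hker j j.2))
  | add t t' h h' => rw [map_add, map_add]; exact add_mem h h'

include hω hn

/-- `cd(A, I) < dim A` if `H^0_I(ω) = 0`. -/
theorem subsingleton_H_of_dualizing (h0 : Subsingleton (H I Ω₀)) (M : Type u) [AddCommGroup M]
    [Module A M] (i : ℕ) (hi : ringKrullDim A ≤ (i : WithBot ℕ∞)) :
    Subsingleton (LocCoh.H I i M) := by
  by_cases hI : I = ⊤
  · subst hI
    haveI : ∀ n, Subsingleton (Q (⊤ : Ideal A) n ⟶ (Dual.inD A M)⟦(i : ℤ)⟧) := fun n =>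
      haveI : Subsingleton (A ⧸ (⊤ : Ideal A) ^ n) :=
        Ideal.Quotient.subsingleton_iff.2 (Ideal.top_pow A n)
      Ext.subsingleton_ex_of_subsingleton (A ⧸ (⊤ : Ideal A) ^ n) _
    haveI := subsingleton_H (⊤ : Ideal A) (W := (Dual.inD A M)⟦(i : ℤ)⟧) this
    exact (lcEquiv (⊤ : Ideal A) M i).injective.subsingleton
  obtain ⟨d, hd⟩ : ∃ d : ℕ, ringKrullDim A = d := by
    generalize hD : ringKrullDim A = D
    have h1 : D ≠ ⊥ := hD ▸ ringKrullDim_ne_bot
    have h2 : D ≠ ⊤ := hD ▸ ringKrullDim_ne_top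
    match D with
    | ⊥ => exact absurd rfl h1
    | (⊤ : ℕ∞) => exact absurd rfl h2
    | (n : ℕ) => exact ⟨n, rfl⟩
  refine H4LC.subsingleton_H_top_hlvt I d hd (fun P hP hPd => ?_) M i (by rw [hd] at hi; exact_mod_cast hi)
  let C := AdicCompletion 𝔪 A
  have hcl : H4LC.IsComplLike A C := H4LC.isComplLike_adicCompletion
  haveI : Module.Flat A C := hcl.flat
  haveI : IsNoetherianRing C := H05EGA4.isNoetherianRing_adicCompletion A 𝔪
  haveI : IsLocalHom (algebraMap A C) := hcl.isLocalHom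
  let K := I.map (algebraMap A C) ⊔ P
  haveI : P.IsPrime := hP.1.1
  by_contra hcon
  have hassP : P ∈ associatedPrimes C C := by
    refine Module.associatedPrimes.minimalPrimes_annihilator_subset_associatedPrimes C C ?_
    rw [Module.annihilator_eq_bot.2 inferInstance]
    exact hP
  obtain ⟨-, x, hx⟩ := (isAssociatedPrime_iff).1 (AssociatedPrimes.mem_iff.1 hassP)
  have hxne : x ≠ 0 := by
    rintro rfl
    exact ‹P.IsPrime›.ne_top ((Ideal.eq_top_iff_one _).2 (by rw [hx, Submodule.mem_colon_singleton]; simp))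
  have hrad : (𝔪).map (algebraMap A C) ≤ K.radical := by
    rw [Ideal.radical_eq_sInf]
    refine le_sInf fun Q ⟨hQ, hQp⟩ => ?_
    haveI := hQp
    suffices Q = IsLocalRing.maximalIdeal C by
      subst this
      exact Ideal.map_le_iff_le_comap.2 fun a ha => map_nonunit (algebraMap A C) a ha
    by_contra hQm
    refine hcon ?_
    have hlt : (⟨Q, hQp⟩ : PrimeSpectrum C) < ⟨IsLocalRing.maximalIdeal C, (IsLocalRing.maximalIdeal.isMaximal C).isPrime⟩ :=
      lt_of_le_of_ne (IsLocalRing.le_maximalIdeal hQp.ne_top) fun h => hQm (congrArg (·.asIdeal) h)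
    rw [ringKrullDim_quotient, Order.one_le_krullDim_iff]
    exact ⟨⟨⟨Q, hQp⟩, hQ⟩, ⟨⟨_, (IsLocalRing.maximalIdeal.isMaximal C).isPrime⟩, hQ.trans (IsLocalRing.le_maximalIdeal hQp.ne_top)⟩, hlt⟩
  have hKfg : ∃ e, ((𝔪).map (algebraMap A C)) ^ e ≤ K :=
    Ideal.exists_pow_le_of_le_radical_of_fg hrad (IsNoetherian.noetherian _)
  obtain ⟨e, he⟩ := hKfg
  have hmem : ∀ n, x ∈ (I.map (algebraMap A C)) ^ n := fun n => by
    obtain ⟨m, -, hm⟩ := exists_torsion_le I hω hn h0 n
    rw [← Ideal.map_pow]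
    refine mem_map_of_colon (I ^ m) (𝔪 ^ (e * m)) (I ^ n) (fun y hy => hm y (e * m) hy) x fun g hg => ?_
    have h1 : algebraMap A C g ∈ ((I.map (algebraMap A C)) ⊔ P) ^ m :=
      Ideal.pow_right_mono he m (by
        rw [← pow_mul, ← Ideal.map_pow]; exact Ideal.mem_map_of_mem _ hg)
    have h2 : ((I.map (algebraMap A C)) ⊔ P) ^ m ≤ (I.map (algebraMap A C)) ^ m ⊔ P := by
      intro z hz
      have : Ideal.Quotient.mk P z ∈ ((I.map (algebraMap A C)).map (Ideal.Quotient.mk P)) ^ m := by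
        have hz' := Ideal.mem_map_of_mem (Ideal.Quotient.mk P) hz
        rwa [Ideal.map_pow, Ideal.map_sup, Ideal.map_quotient_self, sup_bot_eq] at hz'
      rw [← Ideal.map_pow, ← Ideal.mem_comap, Ideal.comap_map_of_surjective' _ Ideal.Quotient.mk_surjective,
        Ideal.mk_ker] at this
      exact this
    obtain ⟨u, hu, v, hv, huv⟩ := Submodule.mem_sup.1 (h2 h1)
    have hv0 : v * x = 0 := by
      rw [hx, Submodule.mem_colon_singleton] at hv
      exact (Submodule.mem_bot C).1 hv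
    rw [← huv, add_mul, hv0, add_zero, Ideal.map_pow]
    exact Ideal.mul_mem_right _ _ hu
  refine hxne ?_
  have : I.map (algebraMap A C) ≠ ⊤ := fun h => hI <| by
    by_contra hI'
    refine IsLocalRing.maximalIdeal.isMaximal C |>.ne_top (top_le_iff.1 (h ▸ ?_))
    exact Ideal.map_le_iff_le_comap.2 fun a ha => map_nonunit (algebraMap A C) a
      (IsLocalRing.le_maximalIdeal hI' ha)
  have h := Ideal.iInf_pow_eq_bot_of_isLocalRing _ this
  exact (Submodule.mem_bot C).1 (h ▸ Submodule.mem_iInf _ |>.2 hmem)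

end Groth.Agent.H4DR.LD
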